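/-
Q-arithmetic for the cuspidal characters of GL_n(q).

`fall Q i k = ∏_{l<i} (Q^k - Q^l)` counts independent `i`-tuples, `alt Q i` are the coefficients
of the q-binomial theorem, `psi Q k = ∏_{0<j<k} (1 - Q^j)`.
-/
import Mathlib

set_option autoImplicit false
set_option linter.unusedSectionVars false
set_option linter.style.haveILetI false

namespace Cfsg.Agent.GLCusp

open Finset

variable {R : Type*} [Field R]

/-- Number of independent `i`-tuples in a `k`-dimensional space over a field of order `Q`. -/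
def fall (Q : R) (i k : ℕ) : R := ∏ l ∈ range i, (Q ^ k - Q ^ l)

/-- `(-1)^i / ((Q-1)(Q^2-1)...(Q^i-1))`. -/
def alt (Q : R) : ℕ → R
  | 0 => 1
  | i + 1 => -alt Q i / (Q ^ (i + 1) - 1)

/-- `(1-Q)(1-Q^2)...(1-Q^(k-1))`. -/
def psi (Q : R) (k : ℕ) : R := ∏ j ∈ range (k - 1), (1 - Q ^ (j + 1))

/-- `Q` is not a root of unity and not zero. -/
structure Generic (Q : R) : Prop where
  ne_zero : Q ≠ 0
  pow_ne : ∀ m : ℕ, m ≠ 0 → Q ^ m ≠ 1

variable {Q : R}

theorem Generic.sub_ne (h : Generic Q) (m : ℕ) : Q ^ (m + 1) - 1 ≠ 0 :=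
  sub_ne_zero.2 (h.pow_ne _ m.succ_ne_zero)

theorem Generic.inv (h : Generic Q) : Generic Q⁻¹ :=
  ⟨inv_ne_zero h.ne_zero, fun m hm e => h.pow_ne m hm (by rwa [inv_pow, inv_eq_one] at e)⟩

theorem Generic.pow (h : Generic Q) {d : ℕ} (hd : d ≠ 0) : Generic (Q ^ d) :=
  ⟨pow_ne_zero _ h.ne_zero, fun m hm => by rw [← pow_mul]; exact h.pow_ne _ (Nat.mul_ne_zero hd hm)⟩

theorem alt_succ_mul (h : Generic Q) (i : ℕ) : alt Q (i + 1) * (Q ^ (i + 1) - 1) = -alt Q i := by
  rw [alt, div_mul_cancel₀ _ (h.sub_ne i)]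

@[simp] theorem fall_zero (k : ℕ) : fall Q 0 k = 1 := by simp [fall]

theorem fall_succ (i k : ℕ) : fall Q (i + 1) k = fall Q i k * (Q ^ k - Q ^ i) := by
  simp [fall, prod_range_succ]

theorem fall_of_lt {i k : ℕ} (h : k < i) : fall Q i k = 0 :=
  prod_eq_zero (mem_range.2 h) (sub_self _)

theorem fall_succ_succ (i k : ℕ) :
    fall Q (i + 1) (k + 1) = (Q ^ (k + 1) - 1) * Q ^ i * fall Q i k := by
  induction i with
  | zero => simp [fall]
  | succ i ih => rw [fall_succ, ih, fall_succ, pow_succ Q k, pow_succ Q i]; ring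

theorem fall_add (i s k : ℕ) :
    fall Q (i + s) (i + k) = fall Q i (i + k) * Q ^ (i * s) * fall Q s k := by
  rw [fall, prod_range_add, fall, mul_assoc]
  congr 1
  rw [fall, pow_mul, show (Q ^ i) ^ s = ∏ _l ∈ range s, Q ^ i by simp, ← prod_mul_distrib]
  refine prod_congr rfl fun l _ => ?_
  rw [pow_add, pow_add]
  ring

theorem fall_add_of_le {i j : ℕ} (s : ℕ) (h : i ≤ j) :
    fall Q (i + s) j = fall Q i j * Q ^ (i * s) * fall Q s (j - i) := by
  obtain ⟨k, rfl⟩ := Nat.exists_eq_add_of_le h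
  simp [fall_add]

theorem fall_self_ne_zero (h : Generic Q) (k : ℕ) : fall Q k k ≠ 0 := by
  induction k with
  | zero => simp
  | succ k ih =>
    rw [fall_succ_succ]
    exact mul_ne_zero (mul_ne_zero (h.sub_ne k) (pow_ne_zero _ h.ne_zero)) ih

/-! ### Sums against `fall` -/

theorem alt_fall_step (h : Generic Q) (i k : ℕ) :
    alt Q (i + 1) * fall Q (i + 1) (k + 1) =
      Q ^ (i + 1) * (alt Q (i + 1) * fall Q (i + 1) k) - Q ^ i * (alt Q i * fall Q i k) := by
  rw [fall_succ_succ, fall_succ]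
  have := alt_succ_mul h i
  calc alt Q (i + 1) * ((Q ^ (k + 1) - 1) * Q ^ i * fall Q i k)
      = alt Q (i + 1) * (Q ^ (i + 1) * (fall Q i k * (Q ^ k - Q ^ i)))
        + (alt Q (i + 1) * (Q ^ (i + 1) - 1)) * Q ^ i * fall Q i k := by
          rw [pow_succ Q k, pow_succ Q i]; ring
    _ = _ := by rw [this]; ring

theorem sum_weight_alt_fall_succ (h : Generic Q) (w : ℕ → R) (k : ℕ) :
    ∑ i ∈ range (k + 2), w i * (alt Q i * fall Q i (k + 1)) =
      ∑ i ∈ range (k + 1), (w i - w (i + 1)) * Q ^ i * (alt Q i * fall Q i k) := by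
  rw [sum_range_succ' _ (k + 1)]
  simp only [alt_fall_step h, mul_sub, sum_sub_distrib, sub_mul]
  simp only [fall_zero]
  have e : ∑ i ∈ range (k + 1), w i * Q ^ i * (alt Q i * fall Q i k) =
      ∑ i ∈ range (k + 1), w (i + 1) * (Q ^ (i + 1) * (alt Q (i + 1) * fall Q (i + 1) k)) + w 0 := by
    rw [sum_range_succ' _ k, sum_range_succ _ k, fall_of_lt (Nat.lt_succ_self k)]
    simp only [fall_zero, alt, pow_zero, mul_one, mul_zero, add_zero]
    congr 1
    exact sum_congr rfl fun i _ => by ring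
  rw [e]
  simp only [alt, mul_one, mul_assoc]
  ring

theorem sum_pow_alt_fall (h : Generic Q) (z : R) (k : ℕ) :
    ∑ i ∈ range (k + 1), z ^ i * (alt Q i * fall Q i k) = ∏ j ∈ range k, (1 - z * Q ^ j) := by
  induction k generalizing z with
  | zero => simp [alt]
  | succ k ih =>
    rw [sum_weight_alt_fall_succ h (z ^ ·) k, prod_range_succ']
    simp only [pow_zero, mul_one, pow_succ' z, ← one_sub_mul, mul_assoc]
    rw [← mul_sum]
    have : ∀ i, z ^ i * (Q ^ i * (alt Q i * fall Q i k)) = (z * Q) ^ i * (alt Q i * fall Q i k) :=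
      fun i => by rw [mul_pow, mul_assoc]
    simp only [this, ih (z * Q), pow_succ' Q, mul_assoc]
    ring

theorem sum_alt_fall (h : Generic Q) (k : ℕ) :
    ∑ i ∈ range (k + 1), alt Q i * fall Q i k = if k = 0 then 1 else 0 := by
  have := sum_pow_alt_fall h 1 k
  simp only [one_pow, one_mul] at this
  rw [this]
  split_ifs with hk
  · simp [hk]
  · exact prod_eq_zero (mem_range.2 (Nat.pos_of_ne_zero hk)) (by simp)

theorem sum_mul_alt_fall (h : Generic Q) (k : ℕ) :
    ∑ l ∈ range (k + 2), (l : R) * (alt Q l * fall Q l (k + 1)) = -psi Q (k + 1) := by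
  rw [sum_weight_alt_fall_succ h (fun l => (l : R)) k]
  have h2 := sum_pow_alt_fall h Q k
  calc ∑ i ∈ range (k + 1), ((i : R) - ((i + 1 : ℕ) : R)) * Q ^ i * (alt Q i * fall Q i k)
      = -∑ i ∈ range (k + 1), Q ^ i * (alt Q i * fall Q i k) := by
        rw [← sum_neg_distrib]
        exact sum_congr rfl fun i _ => by push_cast; ring
    _ = -psi Q (k + 1) := by
        rw [h2, psi, Nat.add_sub_cancel]
        simp only [pow_succ']

/-- The convolution of `alt` with `1/(Q^j - 1)`. -/
theorem sum_alt_div (h : Generic Q) (l : ℕ) :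
    ∑ m ∈ range l, alt Q m / (Q ^ (l - m) - 1) = -((l : R) * alt Q l) := by
  have hgeo : ∀ l, ∑ m ∈ range (l + 1), alt Q m * Q ^ m = alt Q l := by
    intro l
    induction l with
    | zero => simp [alt]
    | succ l ih =>
      rw [sum_range_succ, ih]
      linear_combination alt_succ_mul h l
  induction l with
  | zero => simp
  | succ l ih =>
    have key : (Q ^ (l + 1) - 1) * ∑ m ∈ range (l + 1), alt Q m / (Q ^ (l + 1 - m) - 1) =
        alt Q l - ∑ m ∈ range l, alt Q m / (Q ^ (l - m) - 1) := by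
      rw [mul_sum]
      have split : ∀ m ∈ range (l + 1), (Q ^ (l + 1) - 1) * (alt Q m / (Q ^ (l + 1 - m) - 1)) =
          alt Q m * Q ^ m + (Q ^ m - 1) * alt Q m / (Q ^ (l + 1 - m) - 1) := by
        intro m hm
        have hm' : m < l + 1 := mem_range.1 hm
        have hne : Q ^ (l + 1 - m) - 1 ≠ 0 := sub_ne_zero.2 (h.pow_ne _ (by omega))
        have hp : Q ^ (l + 1) = Q ^ m * Q ^ (l + 1 - m) := by rw [← pow_add]; congr 1; omega
        rw [mul_div_assoc', add_div' _ _ _ hne, hp]
        congr 1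
        ring
      rw [sum_congr rfl split, sum_add_distrib, hgeo, sub_eq_add_neg, ← sum_neg_distrib]
      congr 1
      rw [sum_range_succ' _ l]
      simp only [pow_zero, sub_self, zero_mul, zero_div, add_zero]
      refine sum_congr rfl fun m _ => ?_
      rw [mul_comm (Q ^ (m + 1) - 1), alt_succ_mul h m, neg_div, Nat.add_sub_add_right]
    rw [ih] at key
    apply mul_left_cancel₀ (h.sub_ne l)
    rw [key]
    push_cast
    linear_combination ((l : R) + 1) * alt_succ_mul h l

/-- The value of a cuspidal character at a primary element. -/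
theorem sum_fall_value (h : Generic Q) {k n : ℕ} (hk : 1 ≤ k) (hkn : k ≤ n) :
    ∑ j ∈ Icc 1 n, (Q ^ j - 1)⁻¹ * ∑ i ∈ range (n + 1), alt Q i * fall Q (j + i) k =
      psi Q k := by
  obtain ⟨k, rfl⟩ := Nat.exists_eq_add_of_le hk
  rw [add_comm 1 k] at hkn ⊢
  have hz : ∀ j i, k + 1 < j + i → alt Q i * fall Q (j + i) (k + 1) = 0 := fun j i hji => by
    rw [fall_of_lt hji, mul_zero]
  calc ∑ j ∈ Icc 1 n, (Q ^ j - 1)⁻¹ * ∑ i ∈ range (n + 1), alt Q i * fall Q (j + i) (k + 1)
      = ∑ p ∈ (Icc 1 n ×ˢ range (n + 1)).filter (fun p => p.1 + p.2 ≤ k + 1),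
          alt Q p.2 / (Q ^ p.1 - 1) * fall Q (p.1 + p.2) (k + 1) := by
        rw [sum_filter_of_ne, sum_product]
        · refine sum_congr rfl fun j _ => ?_
          rw [mul_sum]
          exact sum_congr rfl fun i _ => by ring
        · intro p _ hp
          by_contra hc
          exact hp (by rw [fall_of_lt (not_le.1 hc), mul_zero])
    _ = ∑ l ∈ range (k + 2), ∑ m ∈ range l, alt Q m / (Q ^ (l - m) - 1) * fall Q l (k + 1) := by
        rw [Finset.sum_sigma']
        refine sum_nbij' (fun p => (⟨p.1 + p.2, p.2⟩ : Σ _ : ℕ, ℕ)) (fun s => (s.1 - s.2, s.2))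
          ?_ ?_ ?_ ?_ ?_
        · intro p hp
          simp only [mem_filter, mem_product, mem_Icc, mem_range, mem_sigma] at hp ⊢
          omega
        · intro s hs
          simp only [mem_filter, mem_product, mem_Icc, mem_range, mem_sigma] at hs ⊢
          omega
        · intro p _; simp
        · intro s hs
          simp only [mem_sigma, mem_range] at hs
          obtain ⟨a, b⟩ := s
          simp only at hs ⊢
          rw [Nat.sub_add_cancel hs.2.le]
        · intro p _; simp
    _ = psi Q (k + 1) := by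
        rw [← neg_neg (psi Q (k + 1)), ← sum_mul_alt_fall h k, ← sum_neg_distrib]
        refine sum_congr rfl fun l _ => ?_
        rw [← sum_mul, sum_alt_div h l]
        ring

/-- Inversion of the moments `fall Q i`. -/
theorem sum_alt_inv_fall (h : Generic Q) {k j n : ℕ} (hjn : j ≤ n) :
    ∑ s ∈ range (n + 1), alt Q s * (Q⁻¹) ^ (k * s) * fall Q (k + s) j =
      if j = k then fall Q k k else 0 := by
  by_cases hkj : k ≤ j
  · have e : ∀ s, alt Q s * (Q⁻¹) ^ (k * s) * fall Q (k + s) j =
        fall Q k j * (alt Q s * fall Q s (j - k)) := by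
      intro s
      rw [fall_add_of_le s hkj, inv_pow]
      field_simp [pow_ne_zero _ h.ne_zero]
    simp only [e, ← mul_sum]
    rw [← sum_subset (range_mono (show j - k + 1 ≤ n + 1 by omega))
      (fun s _ hs => by rw [fall_of_lt (by simpa using hs), mul_zero]), sum_alt_fall h]
    split_ifs with h1 h2 h2
    · rw [h2, mul_one]
    · omega
    · omega
    · rw [mul_zero]
  · rw [if_neg (by omega)]
    exact sum_eq_zero fun s _ => by rw [fall_of_lt (by omega), mul_zero]

/-! ### The recursion for the distribution of kernel dimensions -/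

/-- `1 - x^j` for `x = Q⁻¹`. -/
def u (Q : R) (j : ℕ) : R := 1 - (Q⁻¹) ^ j

theorem u_ne_zero (h : Generic Q) (j : ℕ) : u Q (j + 1) ≠ 0 :=
  fun e => h.inv.pow_ne _ j.succ_ne_zero (sub_eq_zero.1 e).symm

@[simp] theorem u_zero : u Q 0 = 0 := by simp [u]

/-- Closed form of the distribution. -/
def dist (Q : R) : ℕ → ℕ → R
  | 0, m => if m = 0 then 1 else 0
  | k + 1, m => ∏ l ∈ range m, Q⁻¹ * u Q (k + 1 + l) / u Q (l + 1)

theorem dist_zero_right (k : ℕ) : dist Q k 0 = 1 := by cases k <;> simp [dist]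

theorem dist_step (h : Generic Q) (k m : ℕ) :
    dist Q (k + 1) (m + 1) = dist Q k (m + 1) + (Q⁻¹) ^ (k + 1) * dist Q (k + 1) m := by
  cases k with
  | zero =>
    simp only [dist, prod_range_succ, Nat.succ_ne_zero, if_false, zero_add, pow_one]
    rw [add_comm 1 m]
    field_simp [u_ne_zero h]
  | succ k =>
    have key : ∀ m, (∏ l ∈ range m, Q⁻¹ * u Q (k + 2 + l) / u Q (l + 1)) * u Q (k + 1) =
        (∏ l ∈ range m, Q⁻¹ * u Q (k + 1 + l) / u Q (l + 1)) * u Q (k + 1 + m) := by
      intro m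
      induction m with
      | zero => simp
      | succ m ih =>
        rw [prod_range_succ, prod_range_succ, show k + 2 + m = k + 1 + (m + 1) by ring]
        linear_combination (Q⁻¹ * u Q (k + 1 + (m + 1)) / u Q (m + 1)) * ih
    have hm := u_ne_zero h m
    simp only [dist]
    rw [prod_range_succ, prod_range_succ]
    have e1 : u Q (k + 1 + 1 + m) = u Q (k + 1) + (Q⁻¹) ^ (k + 1) * u Q (m + 1) := by
      simp only [u]; ring
    have e2 := key m
    rw [show k + 2 = k + 1 + 1 by rfl] at e2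
    generalize (∏ l ∈ range m, Q⁻¹ * u Q (k + 1 + 1 + l) / u Q (l + 1)) = A at *
    generalize (∏ l ∈ range m, Q⁻¹ * u Q (k + 1 + l) / u Q (l + 1)) = B at *
    generalize (Q⁻¹) = x at *
    field_simp
    linear_combination (x * A) * e1
      + x * e2

/-- The transform of a sequence `M`. -/
def transform (Q : R) (d : ℕ) (M : ℕ → R) (k r : ℕ) : R :=
  ∑ s ∈ range (r + 1), if d * s ≤ r then alt Q s * (Q⁻¹) ^ (k * s) * M (r - d * s) else 0

theorem transform_ext {d : ℕ} (M : ℕ → R) (k : ℕ) {r N : ℕ} (hd : 1 ≤ d) (hN : r ≤ N) :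
    transform Q d M k r =
      ∑ s ∈ range (N + 1), if d * s ≤ r then alt Q s * (Q⁻¹) ^ (k * s) * M (r - d * s) else 0 := by
  refine sum_subset (range_mono (by omega)) fun s _ hs => if_neg ?_
  simp only [mem_range] at hs
  nlinarith [Nat.mul_le_mul_right s hd]

theorem transform_step (h : Generic Q) {d : ℕ} (hd : 1 ≤ d) (M : ℕ → R) (k r : ℕ) :
    transform Q d M (k + 1) r = transform Q d M k r +
      if d ≤ r then (Q⁻¹) ^ (k + 1) * transform Q d M (k + 1) (r - d) else 0 := by
  by_cases hdr : d ≤ r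
  · rw [if_pos hdr, transform_ext M (k + 1) hd (Nat.le_succ r), transform_ext M k hd (Nat.le_succ r),
      transform_ext M (k + 1) hd (show r - d ≤ r by omega), mul_sum,
      sum_range_succ' _ (r + 1), sum_range_succ' _ (r + 1), add_right_comm, ← sum_add_distrib]
    congr 1
    · refine sum_congr rfl fun s _ => ?_
      have e : d * (s + 1) = d * s + d := by ring
      by_cases hs : d * (s + 1) ≤ r
      · rw [if_pos hs, if_pos hs, if_pos (by omega), show r - d - d * s = r - d * (s + 1) by omega]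
        have hq : (Q⁻¹) ^ (k * (s + 1)) = (Q⁻¹) ^ ((k + 1) * (s + 1)) * Q ^ (s + 1) := by
          rw [add_mul, one_mul, pow_add, mul_assoc, ← mul_pow, inv_mul_cancel₀ h.ne_zero, one_pow,
            mul_one]
        rw [hq, show (k + 1) * (s + 1) = (k + 1) * s + (k + 1) by ring, pow_add]
        linear_combination (-(Q⁻¹) ^ ((k + 1) * s) * (Q⁻¹) ^ (k + 1) * M (r - d * (s + 1))) *
          alt_succ_mul h s
      · rw [if_neg hs, if_neg hs, if_neg (by omega)]; simp
  · rw [if_neg hdr, add_zero]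
    refine sum_congr rfl fun s _ => ?_
    cases s with
    | zero => simp
    | succ s =>
      have : ¬ d * (s + 1) ≤ r := fun e => hdr (le_trans (Nat.le_mul_of_pos_right d s.succ_pos) e)
      rw [if_neg this, if_neg this]

theorem transform_eq (h : Generic Q) {d : ℕ} (hd : 1 ≤ d) (M : ℕ → R)
    (h0 : ∀ r, transform Q d M 0 r = if r = 0 then 1 else 0) (k r : ℕ) :
    transform Q d M k r = if d ∣ r then dist Q k (r / d) else 0 := by
  induction k generalizing r with
  | zero =>
    rw [h0]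
    rcases eq_or_ne r 0 with rfl | hr
    · simp [dist]
    · rw [if_neg hr]
      split_ifs with hdr
      · rw [dist, if_neg]
        exact fun e => hr (Nat.eq_zero_of_dvd_of_div_eq_zero hdr e)
      · rfl
  | succ k ih =>
    induction r using Nat.strong_induction_on with
    | _ r ihr =>
      rw [transform_step h hd, ih r]
      by_cases hdr : d ≤ r
      · rw [if_pos hdr, ihr _ (by omega)]
        by_cases hdvd : d ∣ r
        · rw [if_pos hdvd, if_pos hdvd, if_pos (Nat.dvd_sub hdvd dvd_rfl)]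
          obtain ⟨c, rfl⟩ := hdvd
          obtain ⟨m, rfl⟩ : ∃ m, c = m + 1 :=
            ⟨c - 1, (Nat.sub_add_cancel (Nat.pos_of_ne_zero (fun e => by simp [e] at hdr; omega))).symm⟩
          rw [show d * (m + 1) - d = d * m by rw [mul_add, mul_one, Nat.add_sub_cancel],
            Nat.mul_div_cancel_left _ hd, Nat.mul_div_cancel_left _ hd, dist_step h]
        · rw [if_neg hdvd, if_neg hdvd, if_neg, mul_zero, add_zero]
          exact fun e => hdvd (by simpa [Nat.sub_add_cancel hdr] using Nat.dvd_add e dvd_rfl)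
      · rw [if_neg hdr, add_zero]
        by_cases hdvd : d ∣ r
        · have : r = 0 := Nat.eq_zero_of_dvd_of_lt hdvd (by omega)
          subst this
          simp [dist_zero_right]
        · simp [hdvd]

/-- `u_1 ⋯ u_r`. -/
def up (Q : R) (r : ℕ) : R := ∏ j ∈ range r, u Q (j + 1)

theorem up_ne_zero (h : Generic Q) (r : ℕ) : up Q r ≠ 0 := prod_ne_zero_iff.2 fun _ _ => u_ne_zero h _

theorem dist_mul_up (h : Generic Q) (k r : ℕ) :
    dist Q (k + 1) r * up Q k * up Q r = (Q⁻¹) ^ r * up Q (k + r) := by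
  induction r with
  | zero => simp [dist, up]
  | succ r ih =>
    have hr := u_ne_zero h r
    simp only [dist] at ih ⊢
    have e1 : up Q (r + 1) = up Q r * u Q (r + 1) := by simp [up, prod_range_succ]
    have e2 : up Q (k + r + 1) = up Q (k + r) * u Q (k + r + 1) := by simp [up, prod_range_succ]
    rw [prod_range_succ, e1, show k + (r + 1) = k + r + 1 by ring, e2, pow_succ,
      show k + 1 + r = k + r + 1 by ring]
    generalize (∏ l ∈ range r, Q⁻¹ * u Q (k + 1 + l) / u Q (l + 1)) = A at *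
    field_simp
    linear_combination (Q⁻¹ * u Q (k + r + 1)) * ih

theorem psi_sq_div (h : Generic Q) (k : ℕ) :
    psi Q (k + 1) ^ 2 / fall Q (k + 1) (k + 1) = (Q⁻¹) ^ (k + 1) * up Q k / u Q (k + 1) := by
  induction k with
  | zero =>
    have h1 := u_ne_zero h 0
    have h2 := h.sub_ne 0
    have hz := h.ne_zero
    simp [psi, fall, up, u] at h1 h2 ⊢
    field_simp
  | succ k ih =>
    have hz := h.ne_zero
    have e1 : psi Q (k + 2) = psi Q (k + 1) * (1 - Q ^ (k + 1)) := by
      simp [psi, prod_range_succ]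
    have e2 := fall_succ_succ (Q := Q) (k + 1) (k + 1)
    have h1 := h.sub_ne (k + 1)
    have h2 := fall_self_ne_zero h (k + 1)
    have u1 := u_ne_zero h k
    have u2 := u_ne_zero h (k + 1)
    have e3 : ∀ j, u Q j * Q ^ j = Q ^ j - 1 := fun j => by
      simp [u, sub_mul, hz]
    have e4 : up Q (k + 1) = up Q k * u Q (k + 1) := by simp [up, prod_range_succ]
    rw [e1, e2, mul_pow, e4]
    have : (1 - Q ^ (k + 1)) ^ 2 = (u Q (k + 1) * Q ^ (k + 1)) ^ 2 := by rw [e3]; ring
    rw [this, ← e3 (k + 1 + 1)]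
    rw [div_eq_div_iff h2 u1] at ih
    rw [inv_pow] at ih ⊢
    field_simp at ih ⊢
    linear_combination ih

/-- `u_m u_(m-1) ⋯ u_(m-k+1)`. -/
def down (Q : R) (m k : ℕ) : R := ∏ j ∈ range k, u Q (m - j)

theorem up_eq_mul_down {m k : ℕ} (hk : k ≤ m) : up Q m = up Q (m - k) * down Q m k := by
  induction k with
  | zero => simp [down]
  | succ k ih =>
    rw [ih (by omega), show m - k = m - (k + 1) + 1 by omega, up, prod_range_succ, down, down,
      prod_range_succ, show m - k = m - (k + 1) + 1 by omega, up]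
    ring

theorem sum_down (h : Generic Q) (m : ℕ) :
    ∑ k ∈ range m, down Q m (k + 1) / u Q (k + 1) = (m : R) := by
  induction m with
  | zero => simp
  | succ m ih =>
    have hstep : ∀ k ∈ range (m + 1), down Q (m + 1) (k + 1) / u Q (k + 1) -
        down Q m (k + 1) / u Q (k + 1) = down Q m k - down Q m (k + 1) := by
      intro k hk
      have hk' : k ≤ m := Nat.lt_succ_iff.1 (mem_range.1 hk)
      have e1 : down Q (m + 1) (k + 1) = u Q (m + 1) * down Q m k := by
        rw [down, prod_range_succ', mul_comm]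
        simp [down]
      have e2 : down Q m (k + 1) = down Q m k * u Q (m - k) := by simp [down, prod_range_succ]
      have e3 : u Q (m + 1) - u Q (m - k) = (1 - u Q (m - k)) * u Q (k + 1) := by
        simp only [u, sub_sub_cancel, mul_sub, mul_one, ← pow_add,
          show m - k + (k + 1) = m + 1 by omega]
        ring
      have hu := u_ne_zero h k
      rw [e1, e2, ← sub_div, div_eq_iff hu]
      linear_combination (down Q m k) * e3
    have h3 : ∑ k ∈ range (m + 1), down Q m (k + 1) / u Q (k + 1) = (m : R) := by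
      rw [sum_range_succ, ih, down, prod_eq_zero (i := m) (self_mem_range_succ m) (by simp)]
      simp
    have h4 := sum_congr rfl hstep
    rw [sum_sub_distrib, sum_range_sub', h3] at h4
    have h5 : down Q m (m + 1) = 0 := prod_eq_zero (self_mem_range_succ m) (by simp)
    have h6 : down Q m 0 = 1 := by simp [down]
    rw [h5, h6] at h4
    push_cast
    linear_combination h4

/-- The second moment of `psi`. -/
theorem sum_psi_sq_dist (h : Generic Q) {m : ℕ} (hm : 1 ≤ m) :
    ∑ k ∈ range m, psi Q (k + 1) ^ 2 / fall Q (k + 1) (k + 1) * dist Q (k + 1) (m - (k + 1)) =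
      (m : R) / (Q ^ m - 1) := by
  obtain ⟨m, rfl⟩ := Nat.exists_eq_add_of_le hm
  rw [add_comm 1 m]
  have hu : u Q (m + 1) ≠ 0 := u_ne_zero h m
  have hq : (Q⁻¹) ^ (m + 1) / u Q (m + 1) = (Q ^ (m + 1) - 1)⁻¹ := by
    have hz := h.ne_zero
    have := h.sub_ne m
    simp only [u, inv_pow] at hu ⊢
    field_simp
  rw [div_eq_mul_inv (((m + 1 : ℕ) : R)), ← hq, ← sum_down h (m + 1), sum_mul]
  refine sum_congr rfl fun k hk => ?_
  have hk' : k + 1 ≤ m + 1 := mem_range.1 hk
  have hd := dist_mul_up h k (m + 1 - (k + 1))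
  have hup := up_eq_mul_down (Q := Q) hk'
  rw [show k + (m + 1 - (k + 1)) = m by omega] at hd
  have hupm : up Q (m + 1) = up Q m * u Q (m + 1) := by simp [up, prod_range_succ]
  have hx : (Q⁻¹) ^ (m + 1) = (Q⁻¹) ^ (k + 1) * (Q⁻¹) ^ (m + 1 - (k + 1)) := by
    rw [← pow_add]; congr 1; omega
  rw [psi_sq_div h k, hx]
  have uk := u_ne_zero h k
  apply mul_right_cancel₀ (up_ne_zero h (m + 1 - (k + 1)))
  rw [hupm] at hup
  field_simp
  linear_combination (Q⁻¹ ^ (k + 1) * u Q (m + 1)) * hd +
    (Q⁻¹ ^ (k + 1) * Q⁻¹ ^ (m + 1 - (k + 1))) * hup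

end Cfsg.Agent.GLCusp
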