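/-
Alternating sums over chains of a finite poset: toggling lemmas and the decomposition by the top.
-/
import Mathlib

set_option autoImplicit false
set_option linter.unusedSectionVars false
set_option linter.style.haveILetI false

namespace Cfsg.Agent.GLCusp

open Finset

variable {L : Type*} [PartialOrder L] [Finite L]

open Classical in
/-- The chains consisting of elements satisfying `P`. -/
noncomputable def chains (P : L → Prop) : Finset (Finset L) :=
  letI := Fintype.ofFinite L
  (univ : Finset (Finset L)).filter (fun c => (∀ x ∈ c, P x) ∧ IsChain (· ≤ ·) (c : Set L))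

/-- The alternating number of chains. -/
noncomputable def chainSum (P : L → Prop) : ℤ := ∑ c ∈ chains P, (-1) ^ c.card

theorem mem_chains {P : L → Prop} {c : Finset L} :
    c ∈ chains P ↔ (∀ x ∈ c, P x) ∧ ∀ x ∈ c, ∀ y ∈ c, x ≤ y ∨ y ≤ x := by
  letI := Fintype.ofFinite L
  classical
  simp only [chains, mem_filter, mem_univ, true_and]
  refine and_congr_right fun _ => ⟨fun h x hx y hy => ?_, fun h x hx y hy _ => h x hx y hy⟩
  rcases eq_or_ne x y with rfl | hne
  · exact Or.inl le_rfl
  · exact h hx hy hne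

theorem chains_congr {P P' : L → Prop} (h : ∀ x, P x ↔ P' x) : chains P = chains P' := by
  ext c; simp only [mem_chains, h]

theorem chainSum_congr {P P' : L → Prop} (h : ∀ x, P x ↔ P' x) : chainSum P = chainSum P' := by
  rw [chainSum, chainSum, chains_congr h]

theorem neg_one_pow_card_toggle [DecidableEq L] (c : Finset L) (a : L) :
    (-1 : ℤ) ^ (if a ∈ c then c.erase a else insert a c).card = -(-1) ^ c.card := by
  split_ifs with h
  · rw [← card_erase_add_one h, pow_succ]; ring
  · rw [card_insert_of_notMem h, pow_succ]; ring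

/-- Toggling a selected element kills the alternating sum. -/
theorem sum_toggle_eq_zero (S : Finset (Finset L)) (sel : Finset L → L) [DecidableEq L]
    (hmem : ∀ c ∈ S, (if sel c ∈ c then c.erase (sel c) else insert (sel c) c) ∈ S)
    (hsel : ∀ c ∈ S, sel (if sel c ∈ c then c.erase (sel c) else insert (sel c) c) = sel c) :
    ∑ c ∈ S, (-1 : ℤ) ^ c.card = 0 := by
  refine sum_involution (fun c _ => if sel c ∈ c then c.erase (sel c) else insert (sel c) c)
    (fun c _ => by rw [neg_one_pow_card_toggle]; ring) (fun c _ _ e => ?_) hmem (fun c hc => ?_)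
  · have := congrArg (fun t => sel c ∈ t) e
    by_cases h : sel c ∈ c <;> simp [h] at this
  · simp only [hsel c hc]
    by_cases h : sel c ∈ c <;> simp [h]

/-- A poset with a least element has vanishing alternating chain sum. -/
theorem chainSum_eq_zero_of_min {P : L → Prop} {h : L} (hP : P h) (hmin : ∀ x, P x → h ≤ x) :
    chainSum P = 0 := by
  classical
  refine sum_toggle_eq_zero _ (fun _ => h) (fun c hc => ?_) (fun _ _ => rfl)
  rw [mem_chains] at hc ⊢
  split_ifs
  · exact ⟨fun x hx => hc.1 x (mem_of_mem_erase hx),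
      fun x hx y hy => hc.2 x (mem_of_mem_erase hx) y (mem_of_mem_erase hy)⟩
  · refine ⟨fun x hx => ?_, fun x hx y hy => ?_⟩
    · rcases mem_insert.1 hx with rfl | hx
      exacts [hP, hc.1 x hx]
    · rcases mem_insert.1 hx with hx | hx
      · subst hx
        rcases mem_insert.1 hy with hy | hy
        exacts [Or.inl hy.ge, Or.inl (hmin y (hc.1 y hy))]
      · rcases mem_insert.1 hy with hy | hy
        exacts [Or.inr (hy ▸ hmin x (hc.1 x hx)), hc.2 x hx y hy]

/-- Retraction along an increasing closure map. -/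
theorem chainSum_retract_up {P : L → Prop} (φ : L → L) (hP : ∀ x, P x → P (φ x))
    (hle : ∀ x, P x → x ≤ φ x) (hmono : ∀ x y, P x → P y → x ≤ y → φ x ≤ φ y)
    (hidem : ∀ x, P x → φ (φ x) = φ x) :
    chainSum P = chainSum (fun x => P x ∧ φ x = x) := by
  classical
  rw [chainSum, chainSum, ← sum_filter_add_sum_filter_not (chains P) (fun c => ∀ x ∈ c, φ x = x)]
  have e : (chains P).filter (fun c => ∀ x ∈ c, φ x = x) = chains (fun x => P x ∧ φ x = x) := by
    ext c
    simp only [mem_filter, mem_chains]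
    exact ⟨fun ⟨⟨a, b⟩, d⟩ => ⟨fun x hx => ⟨a x hx, d x hx⟩, b⟩,
      fun ⟨a, b⟩ => ⟨⟨fun x hx => (a x hx).1, b⟩, fun x hx => (a x hx).2⟩⟩
  rw [e, add_eq_left]
  let top : Finset L → L → Prop := fun c x => x ∈ c ∧ φ x ≠ x ∧ ∀ y ∈ c, φ y ≠ y → y ≤ x
  have hex : ∀ c ∈ (chains P).filter (fun c => ¬∀ x ∈ c, φ x = x), ∃ x, top c x := by
    intro c hc
    simp only [mem_filter, mem_chains, not_forall] at hc
    obtain ⟨⟨-, hch⟩, x, hx, hxne⟩ := hc
    obtain ⟨m, hm, hmax⟩ := (c.filter (fun x => φ x ≠ x)).exists_maximal ⟨x, mem_filter.2 ⟨hx, hxne⟩⟩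
    rw [mem_filter] at hm
    refine ⟨m, hm.1, hm.2, fun y hy hyne => ?_⟩
    rcases hch y hy m hm.1 with h | h
    · exact h
    · exact hmax (mem_filter.2 ⟨hy, hyne⟩) h
  have huniq : ∀ c x y, top c x → top c y → x = y := fun c x y hx hy =>
    le_antisymm (hy.2.2 x hx.1 hx.2.1) (hx.2.2 y hy.1 hy.2.1)
  rcases ((chains P).filter (fun c => ¬∀ x ∈ c, φ x = x)).eq_empty_or_nonempty with h0 | ⟨c₀, hc₀⟩
  · rw [h0, sum_empty]
  obtain ⟨x₀, -⟩ := hex c₀ hc₀
  have : Nonempty L := ⟨x₀⟩
  let sel : Finset L → L := fun c => φ (Classical.epsilon (top c))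
  refine sum_toggle_eq_zero _ sel (fun c hc => ?_) (fun c hc => ?_) <;>
    obtain hx := Classical.epsilon_spec (hex c hc)
  all_goals
    set x := Classical.epsilon (top c) with hxdef
    have hc' := hc
    simp only [mem_filter, mem_chains, not_forall] at hc'
    obtain ⟨⟨hcP, hch⟩, -⟩ := hc'
    have hPx := hcP x hx.1
    have hfix : φ (φ x) = φ x := hidem x hPx
    have hne : x ≠ φ x := fun e => hx.2.1 e.symm
  · rw [mem_filter, mem_chains]
    refine ⟨?_, fun h => hx.2.1 (h x ?_)⟩
    · show (∀ y ∈ (if φ x ∈ c then c.erase (φ x) else insert (φ x) c), P y) ∧ _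
      split_ifs
      · exact ⟨fun y hy => hcP y (mem_of_mem_erase hy),
          fun y hy z hz => hch y (mem_of_mem_erase hy) z (mem_of_mem_erase hz)⟩
      · have cmp : ∀ y ∈ c, y ≤ φ x ∨ φ x ≤ y := by
          intro y hy
          rcases hch y hy x hx.1 with h | h
          · exact Or.inl (h.trans (hle x hPx))
          · by_cases hy' : φ y = y
            · exact Or.inr (hy' ▸ hmono x y hPx (hcP y hy) h)
            · exact Or.inl ((hx.2.2 y hy hy').trans (hle x hPx))
        refine ⟨fun y hy => ?_, fun y hy z hz => ?_⟩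
        · rcases mem_insert.1 hy with rfl | hy
          exacts [hP x hPx, hcP y hy]
        · rcases mem_insert.1 hy with rfl | hy <;> rcases mem_insert.1 hz with rfl | hz
          exacts [Or.inl le_rfl, (cmp z hz).symm, cmp y hy, hch y hy z hz]
    · show x ∈ (if φ x ∈ c then c.erase (φ x) else insert (φ x) c)
      split_ifs
      · exact mem_erase.2 ⟨hne, hx.1⟩
      · exact mem_insert_of_mem hx.1
  · have htop : top (if φ x ∈ c then c.erase (φ x) else insert (φ x) c) x := by
      split_ifs
      · exact ⟨mem_erase.2 ⟨hne, hx.1⟩, hx.2.1, fun y hy h => hx.2.2 y (mem_of_mem_erase hy) h⟩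
      · refine ⟨mem_insert_of_mem hx.1, hx.2.1, fun y hy h => ?_⟩
        rcases mem_insert.1 hy with rfl | hy
        · exact absurd hfix h
        · exact hx.2.2 y hy h
    show φ (Classical.epsilon (top _)) = φ x
    rw [huniq _ _ x (Classical.epsilon_spec ⟨x, htop⟩) htop]

theorem chains_toDual (P : L → Prop) : chains (L := Lᵒᵈ) (fun x => P (OrderDual.ofDual x)) =
    (chains P).map ⟨fun c => c.map OrderDual.toDual.toEmbedding, Finset.map_injective _⟩ := by
  ext c
  simp only [mem_map, mem_chains, Function.Embedding.coeFn_mk]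
  refine ⟨fun h => ⟨c.map OrderDual.ofDual.toEmbedding, ⟨?_, ?_⟩, ?_⟩, ?_⟩
  · intro x hx
    obtain ⟨y, hy, rfl⟩ := mem_map.1 hx
    exact h.1 y hy
  · intro x hx y hy
    obtain ⟨a, ha, rfl⟩ := mem_map.1 hx
    obtain ⟨b, hb, rfl⟩ := mem_map.1 hy
    exact (h.2 a ha b hb).symm
  · rw [map_map]
    exact Finset.map_refl
  · rintro ⟨e, he, rfl⟩
    refine ⟨fun x hx => ?_, fun x hx y hy => ?_⟩
    · obtain ⟨a, ha, rfl⟩ := mem_map.1 hx
      exact he.1 a ha
    · obtain ⟨a, ha, rfl⟩ := mem_map.1 hx
      obtain ⟨b, hb, rfl⟩ := mem_map.1 hy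
      exact (he.2 a ha b hb).symm

/-- Retraction along a decreasing map. -/
theorem chainSum_retract_down {P : L → Prop} (φ : L → L) (hP : ∀ x, P x → P (φ x))
    (hle : ∀ x, P x → φ x ≤ x) (hmono : ∀ x y, P x → P y → x ≤ y → φ x ≤ φ y)
    (hidem : ∀ x, P x → φ (φ x) = φ x) :
    chainSum P = chainSum (fun x => P x ∧ φ x = x) := by
  have h := chainSum_retract_up (L := Lᵒᵈ) (P := fun x => P (OrderDual.ofDual x))
    (fun x => OrderDual.toDual (φ (OrderDual.ofDual x))) (fun x hx => hP _ hx)
    (fun x hx => hle _ hx) (fun x y hx hy hxy => hmono _ _ hy hx hxy)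
    (fun x hx => congrArg OrderDual.toDual (hidem _ hx))
  have e : ∀ Q : L → Prop, chainSum (L := Lᵒᵈ) (fun x => Q (OrderDual.ofDual x)) = chainSum Q := by
    intro Q
    rw [chainSum, chainSum, chains_toDual, sum_map]
    exact sum_congr rfl fun c _ => by simp
  rw [← e P, h, ← e (fun x => P x ∧ φ x = x)]
  rfl

/-- Decomposition of the chain sum by the top element. -/
theorem chainSum_eq_one_add (P : L → Prop) [Fintype L] [DecidablePred P] :
    chainSum P = 1 + ∑ x ∈ univ.filter P, -chainSum (fun y => P y ∧ y < x) := by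
  classical
  rw [chainSum, ← sum_filter_add_sum_filter_not (chains P) (fun c => c = ∅)]
  congr 1
  · rw [show (chains P).filter (fun c => c = ∅) = {∅} by
      ext c
      simp only [mem_filter, mem_singleton, mem_chains]
      exact ⟨And.right, by rintro rfl; simp⟩]
    simp
  · simp only [chainSum, ← sum_neg_distrib]
    rw [Finset.sum_sigma']
    symm
    refine sum_bij (fun s _ => insert s.1 s.2) ?_ ?_ ?_ ?_
    · intro s hs
      simp only [mem_sigma, mem_filter, mem_univ, true_and, mem_chains] at hs ⊢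
      refine ⟨⟨fun x hx => ?_, fun x hx y hy => ?_⟩, insert_ne_empty _ _⟩
      · rcases mem_insert.1 hx with rfl | hx
        exacts [hs.1, (hs.2.1 x hx).1]
      · rcases mem_insert.1 hx with rfl | hx <;> rcases mem_insert.1 hy with rfl | hy
        exacts [Or.inl le_rfl, Or.inr (hs.2.1 y hy).2.le, Or.inl (hs.2.1 x hx).2.le,
          hs.2.2 x hx y hy]
    · rintro ⟨a, c⟩ h1 ⟨b, e⟩ h2 heq
      simp only [mem_sigma, mem_filter, mem_univ, true_and, mem_chains] at h1 h2 heq
      have hab : a = b := by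
        have ha : a ∈ insert b e := heq ▸ mem_insert_self a c
        have hb : b ∈ insert a c := heq ▸ mem_insert_self b e
        rcases mem_insert.1 ha with h | h
        · exact h
        rcases mem_insert.1 hb with h' | h'
        · exact h'.symm
        exact absurd ((h2.2.1 a h).2.trans (h1.2.1 b h').2) (lt_irrefl a)
      subst hab
      have hc : a ∉ c := fun h => lt_irrefl a (h1.2.1 a h).2
      have he : a ∉ e := fun h => lt_irrefl a (h2.2.1 a h).2
      rw [show c = e by rw [← erase_insert hc, heq, erase_insert he]]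
    · intro c hc
      simp only [mem_filter, mem_chains] at hc
      obtain ⟨m, hm, hmax⟩ := c.exists_maximal (nonempty_iff_ne_empty.2 hc.2)
      refine ⟨⟨m, c.erase m⟩, ?_, insert_erase hm⟩
      simp only [mem_sigma, mem_filter, mem_univ, true_and, mem_chains]
      refine ⟨hc.1.1 m hm, fun x hx => ⟨hc.1.1 x (mem_of_mem_erase hx), ?_⟩,
        fun x hx y hy => hc.1.2 x (mem_of_mem_erase hx) y (mem_of_mem_erase hy)⟩
      rcases hc.1.2 x (mem_of_mem_erase hx) m hm with h | h
      · exact lt_of_le_of_ne h (mem_erase.1 hx).1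
      · exact absurd (le_antisymm (hmax (mem_of_mem_erase hx) h) h) (mem_erase.1 hx).1
    · intro s hs
      simp only [mem_sigma, mem_filter, mem_univ, true_and, mem_chains] at hs
      rw [card_insert_of_notMem (fun h => lt_irrefl _ (hs.2.1 _ h).2), pow_succ]
      ring

/-- Transport along an order embedding. -/
theorem chainSum_map {L' : Type*} [PartialOrder L'] [Finite L'] (e : L' ↪o L) (P : L → Prop)
    (P' : L' → Prop) (h : ∀ x, P x ↔ ∃ y, P' y ∧ e y = x) : chainSum P = chainSum P' := by
  classical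
  rw [chainSum, chainSum]
  refine (sum_bij (fun c _ => c.map e.toEmbedding) ?_ ?_ ?_ ?_).symm
  · intro c hc
    rw [mem_chains] at hc ⊢
    refine ⟨fun x hx => ?_, fun x hx y hy => ?_⟩
    · obtain ⟨a, ha, rfl⟩ := mem_map.1 hx
      exact (h _).2 ⟨a, hc.1 a ha, rfl⟩
    · obtain ⟨a, ha, rfl⟩ := mem_map.1 hx
      obtain ⟨b, hb, rfl⟩ := mem_map.1 hy
      exact (hc.2 a ha b hb).imp e.monotone.imp e.monotone.imp
  · intro a _ b _ hab
    exact Finset.map_injective _ hab
  · intro c hc
    rw [mem_chains] at hc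
    refine ⟨c.preimage e e.injective.injOn, ?_, ?_⟩
    · rw [mem_chains]
      refine ⟨fun x hx => ?_, fun x hx y hy => ?_⟩
      · rw [mem_preimage] at hx
        obtain ⟨y, hy, hye⟩ := (h _).1 (hc.1 _ hx)
        rwa [← e.injective hye]
      · rw [mem_preimage] at hx hy
        exact (hc.2 _ hx _ hy).imp e.le_iff_le.1 e.le_iff_le.1
    · ext x
      simp only [mem_map, mem_preimage, RelEmbedding.coe_toEmbedding]
      refine ⟨by rintro ⟨a, ha, rfl⟩; exact ha, fun hx => ?_⟩
      obtain ⟨y, -, rfl⟩ := (h x).1 (hc.1 x hx)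
      exact ⟨y, hx, rfl⟩
  · intro c _
    rw [card_map]

end Cfsg.Agent.GLCusp
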