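/-
Subspace counting over a finite field, with the alternating chain sums of avoiding subspaces.
-/
import Cfsg.Agent.Lib.GLCuspidal.Arith
import Cfsg.Agent.Lib.GLCuspidal.ChainSum

set_option autoImplicit false
set_option linter.unusedSectionVars false
set_option linter.style.haveILetI false

namespace Cfsg.Agent.GLCusp

open Finset Module

variable {Kf S : Type*} [Field Kf] [Finite Kf] [AddCommGroup S] [Module Kf S] [Finite S]

local notation "Qc" => ((Nat.card Kf : ℕ) : ℂ)

theorem generic_natCast {q : ℕ} (hq : 2 ≤ q) : Generic ((q : ℕ) : ℂ) :=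
  ⟨by simp only [ne_eq, Nat.cast_eq_zero]; omega, fun m hm e => by
    have h : q ^ m = 1 := by exact_mod_cast e
    have := Nat.one_lt_pow hm (show 1 < q by omega)
    omega⟩

omit S in
theorem generic_card : Generic Qc := generic_natCast Finite.one_lt_card

theorem card_indep (i : ℕ) :
    (Nat.card {v : Fin i → S // LinearIndependent Kf v} : ℂ) = fall Qc i (finrank Kf S) := by
  have := Fintype.ofFinite Kf
  haveI : Module.Finite Kf S := Module.Finite.of_finite
  by_cases hi : i ≤ finrank Kf S
  · rw [card_linearIndependent hi, fall, Nat.card_eq_fintype_card, Nat.cast_prod,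
      ← Fin.prod_univ_eq_prod_range (fun l => ((Fintype.card Kf : ℕ) : ℂ) ^ finrank Kf S -
        ((Fintype.card Kf : ℕ) : ℂ) ^ l)]
    refine prod_congr rfl fun l _ => ?_
    rw [Nat.cast_sub (Nat.pow_le_pow_right Fintype.card_pos (le_of_lt (lt_of_lt_of_le l.2 hi)))]
    push_cast
    rfl
  · rw [fall_of_lt (not_le.1 hi)]
    have : IsEmpty {v : Fin i → S // LinearIndependent Kf v} :=
      ⟨fun v => hi (by simpa using v.2.fintype_card_le_finrank)⟩
    simp

theorem finrank_span_of_indep {i : ℕ} {v : Fin i → S} (hv : LinearIndependent Kf v) :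
    finrank Kf (Submodule.span Kf (Set.range v)) = i := by
  rw [finrank_span_eq_card hv, Fintype.card_fin]

theorem card_indep_span (U : Submodule Kf S) :
    (Nat.card {v : Fin (finrank Kf U) → S // LinearIndependent Kf v ∧
      Submodule.span Kf (Set.range v) = U} : ℂ) = fall Qc (finrank Kf U) (finrank Kf U) := by
  haveI : Module.Finite Kf S := Module.Finite.of_finite
  rw [← card_indep (S := U)]
  congr 1
  refine Nat.card_congr
    { toFun := fun v => ⟨fun l => ⟨v.1 l, v.2.2.le (Submodule.subset_span ⟨l, rfl⟩)⟩,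
        LinearIndependent.of_comp U.subtype v.2.1⟩
      invFun := fun w => ⟨fun l => (w.1 l : S), w.2.map' U.subtype U.ker_subtype, ?_⟩
      left_inv := fun _ => rfl
      right_inv := fun _ => rfl }
  refine Submodule.eq_of_le_of_finrank_eq (Submodule.span_le.2 ?_) ?_
  · rintro _ ⟨l, rfl⟩
    exact (w.1 l).2
  · exact finrank_span_of_indep (w.2.map' U.subtype U.ker_subtype)

/-- The Moebius weight of a subspace. -/
noncomputable def wt (U : Submodule Kf S) : ℂ :=
  alt Qc (finrank Kf U) * fall Qc (finrank Kf U) (finrank Kf U)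

theorem wt_bot : wt (⊥ : Submodule Kf S) = 1 := by simp [wt, alt]

theorem sum_wt [Fintype (Submodule Kf S)] (P : Submodule Kf S → Prop) [DecidablePred P] {N : ℕ}
    (hN : finrank Kf S ≤ N) :
    ∑ U ∈ univ.filter P, wt U = ∑ i ∈ range (N + 1), alt Qc i *
      (Nat.card {v : Fin i → S // LinearIndependent Kf v ∧ P (Submodule.span Kf (Set.range v))} : ℂ)
    := by
  classical
  haveI : Module.Finite Kf S := Module.Finite.of_finite
  rw [← sum_fiberwise_of_maps_to (t := range (N + 1)) (g := fun U : Submodule Kf S => finrank Kf U)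
    (fun U _ => mem_range.2 (Nat.lt_succ_of_le (U.finrank_le.trans hN)))]
  refine sum_congr rfl fun i _ => ?_
  have hw : ∀ U ∈ (univ.filter P).filter (fun U : Submodule Kf S => finrank Kf U = i),
      wt U = alt Qc i * (Nat.card {v : Fin i → S // LinearIndependent Kf v ∧
        Submodule.span Kf (Set.range v) = U} : ℂ) := by
    intro U hU
    obtain ⟨-, rfl⟩ := mem_filter.1 hU
    rw [wt, card_indep_span]
  rw [sum_congr rfl hw, ← mul_sum]
  congr 1
  rw [← Nat.cast_sum]
  congr 1
  have := Fintype.ofFinite S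
  simp only [Nat.card_eq_fintype_card, Fintype.card_subtype]
  rw [card_eq_sum_card_fiberwise (f := fun v : Fin i → S => Submodule.span Kf (Set.range v))
    (t := (univ.filter P).filter (fun U : Submodule Kf S => finrank Kf U = i))]
  · refine sum_congr rfl fun U hU => ?_
    simp only [mem_filter, mem_univ, true_and] at hU
    congr 1
    ext v
    simp only [mem_filter, mem_univ, true_and]
    exact ⟨fun h => ⟨⟨h.1, h.2 ▸ hU.1⟩, h.2⟩, fun h => ⟨h.1.1, h.2⟩⟩
  · intro v hv
    simp only [coe_filter, mem_filter, mem_univ, true_and, Set.mem_ofPred_eq] at hv ⊢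
    exact ⟨hv.2, finrank_span_of_indep hv.1⟩

theorem sum_wt_le [Fintype (Submodule Kf S)] (W : Submodule Kf S) [DecidablePred (· ≤ W)] :
    ∑ U ∈ univ.filter (· ≤ W), wt U = if finrank Kf W = 0 then 1 else 0 := by
  classical
  haveI : Module.Finite Kf S := Module.Finite.of_finite
  rw [sum_wt (· ≤ W) le_rfl, ← sum_alt_fall (Q := Qc) generic_card,
    ← sum_subset (range_mono (Nat.succ_le_succ W.finrank_le))]
  · refine sum_congr rfl fun i _ => ?_
    congr 1
    rw [← card_indep (S := W)]
    congr 1
    exact Nat.card_congr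
      { toFun := fun v => ⟨fun l => ⟨v.1 l, v.2.2 (Submodule.subset_span ⟨l, rfl⟩)⟩,
          LinearIndependent.of_comp W.subtype v.2.1⟩
        invFun := fun w => ⟨fun l => (w.1 l : S), w.2.map' W.subtype W.ker_subtype,
          Submodule.span_le.2 (by rintro _ ⟨l, rfl⟩; exact (w.1 l).2)⟩
        left_inv := fun _ => rfl
        right_inv := fun _ => rfl }
  · intro i _ hi
    have : IsEmpty {v : Fin i → S // LinearIndependent Kf v ∧
        Submodule.span Kf (Set.range v) ≤ W} := by
      refine ⟨fun v => hi (mem_range.2 (Nat.lt_succ_of_le ?_))⟩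
      rw [← finrank_span_of_indep v.2.1]
      exact Submodule.finrank_mono v.2.2
    simp

theorem neg_chainSum_lt (W : Submodule Kf S) (hW : W ≠ ⊥) :
    -(chainSum (fun U : Submodule Kf S => U ≠ ⊥ ∧ U < W) : ℂ) = wt W := by
  classical
  haveI : Module.Finite Kf S := Module.Finite.of_finite
  have := Fintype.ofFinite (Submodule Kf S)
  induction hd : finrank Kf W using Nat.strong_induction_on generalizing W with
  | _ d ih =>
    subst hd
    rw [chainSum_eq_one_add]
    push_cast
    have e : ∀ U ∈ univ.filter (fun U : Submodule Kf S => U ≠ ⊥ ∧ U < W),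
        -((chainSum fun Y : Submodule Kf S => (Y ≠ ⊥ ∧ Y < W) ∧ Y < U : ℤ) : ℂ) = wt U := by
      intro U hU
      simp only [mem_filter, mem_univ, true_and] at hU
      rw [chainSum_congr (fun Y => show ((Y ≠ ⊥ ∧ Y < W) ∧ Y < U) ↔ (Y ≠ ⊥ ∧ Y < U) from
        ⟨fun h => ⟨h.1.1, h.2⟩, fun h => ⟨⟨h.1, h.2.trans hU.2⟩, h.2⟩⟩)]
      exact ih _ (Submodule.finrank_lt_finrank_of_lt hU.2) U hU.1 rfl
    rw [sum_congr rfl e]
    have h := sum_wt_le W
    rw [if_neg (fun h0 => hW (Submodule.finrank_eq_zero.1 h0))] at h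
    have hs : univ.filter (· ≤ W) =
        insert W (insert ⊥ (univ.filter (fun U : Submodule Kf S => U ≠ ⊥ ∧ U < W))) := by
      ext U
      simp only [mem_filter, mem_univ, true_and, mem_insert]
      constructor
      · intro h
        rcases h.lt_or_eq with h | h
        · rcases eq_or_ne U ⊥ with h0 | h0
          · exact Or.inr (Or.inl h0)
          · exact Or.inr (Or.inr ⟨h0, h⟩)
        · exact Or.inl h
      · rintro (rfl | rfl | h)
        exacts [le_rfl, bot_le, h.2.le]
    rw [hs, sum_insert (by simp [hW]), sum_insert (by simp), wt_bot] at h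
    linear_combination -h

/-- The alternating chain sum of a downward closed family. -/
theorem chainSum_downClosed [Fintype (Submodule Kf S)] {P : Submodule Kf S → Prop}
    [DecidablePred P] (h0 : P ⊥) (hdown : ∀ U W, U ≤ W → P W → P U) :
    (chainSum (fun U : Submodule Kf S => U ≠ ⊥ ∧ P U) : ℂ) = ∑ U ∈ univ.filter P, wt U := by
  classical
  have hs : univ.filter P = insert ⊥ (univ.filter (fun U : Submodule Kf S => U ≠ ⊥ ∧ P U)) := by
    ext U
    simp only [mem_filter, mem_univ, true_and, mem_insert]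
    rcases eq_or_ne U ⊥ with rfl | hU <;> simp [*]
  rw [hs, sum_insert (by simp), wt_bot, chainSum_eq_one_add]
  push_cast
  congr 1
  refine sum_congr rfl fun U hU => ?_
  simp only [mem_filter, mem_univ, true_and] at hU
  rw [chainSum_congr (fun Y => show ((Y ≠ ⊥ ∧ P Y) ∧ Y < U) ↔ (Y ≠ ⊥ ∧ Y < U) from
    ⟨fun h => ⟨h.1.1, h.2⟩, fun h => ⟨⟨h.1, hdown _ _ h.2.le hU.2⟩, h.2⟩⟩)]
  exact neg_chainSum_lt U hU.1

/-- Avoiding subspaces, summed over the independent `j`-tuples to be avoided. -/
theorem sum_avoid (j : ℕ) {N : ℕ} (hN : finrank Kf S ≤ N)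
    [Fintype {v : Fin j → S // LinearIndependent Kf v}] :
    ∑ v : {v : Fin j → S // LinearIndependent Kf v},
      (chainSum (fun U : Submodule Kf S =>
        U ≠ ⊥ ∧ Disjoint (Submodule.span Kf (Set.range v.1)) U) : ℂ) =
      ∑ i ∈ range (N + 1), alt Qc i * fall Qc (j + i) (finrank Kf S) := by
  classical
  haveI : Module.Finite Kf S := Module.Finite.of_finite
  have := Fintype.ofFinite (Submodule Kf S)
  have key : ∀ v : {v : Fin j → S // LinearIndependent Kf v},
      (chainSum (fun U : Submodule Kf S =>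
        U ≠ ⊥ ∧ Disjoint (Submodule.span Kf (Set.range v.1)) U) : ℂ) =
      ∑ i ∈ range (N + 1), alt Qc i * (Nat.card {t : Fin i → S // LinearIndependent Kf t ∧
        Disjoint (Submodule.span Kf (Set.range v.1)) (Submodule.span Kf (Set.range t))} : ℂ) := by
    intro v
    let P : Submodule Kf S → Prop := fun U => Disjoint (Submodule.span Kf (Set.range v.1)) U
    exact (chainSum_downClosed (P := P) disjoint_bot_right
      (fun U W h hd => hd.mono_right h)).trans (sum_wt P hN)
  simp only [key]
  rw [sum_comm]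
  refine sum_congr rfl fun i _ => ?_
  rw [← mul_sum, ← Nat.cast_sum, ← card_indep]
  congr 2
  rw [← Nat.card_sigma]
  refine Nat.card_congr
    { toFun := fun p => ⟨Sum.elim p.1.1 p.2.1 ∘ finSumFinEquiv.symm,
        (linearIndependent_sum.2 ⟨by simpa using p.1.2, by simpa using p.2.2.1,
          by simpa using p.2.2.2⟩).comp _ finSumFinEquiv.symm.injective⟩
      invFun := fun w => ⟨⟨w.1 ∘ finSumFinEquiv ∘ Sum.inl, ?_⟩, ⟨w.1 ∘ finSumFinEquiv ∘ Sum.inr, ?_⟩⟩
      left_inv := fun p => ?_
      right_inv := fun w => ?_ }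
  · exact (linearIndependent_sum.1 (w.2.comp _ finSumFinEquiv.injective)).1
  · have h := linearIndependent_sum.1 (w.2.comp _ finSumFinEquiv.injective)
    exact ⟨h.2.1, h.2.2⟩
  · obtain ⟨⟨v, hv⟩, ⟨t, ht⟩⟩ := p
    have e1 : (Sum.elim v t ∘ finSumFinEquiv.symm) ∘ finSumFinEquiv ∘ Sum.inl = v := by
      funext l; simp
    have e2 : (Sum.elim v t ∘ finSumFinEquiv.symm) ∘ finSumFinEquiv ∘ Sum.inr = t := by
      funext l; simp
    refine Sigma.subtype_ext (Subtype.ext ?_) ?_
    · exact e1
    · exact e2
  · ext l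
    obtain ⟨s, rfl⟩ := finSumFinEquiv.surjective l
    rcases s with a | a <;> simp

end Cfsg.Agent.GLCusp
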