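/-
The structure over `F[X]/(f)` of the socle of an endomorphism, and the two counting lemmas.
-/
import Cfsg.Agent.Lib.GLCuspidal.Space

set_option autoImplicit false
set_option linter.unusedSectionVars false
set_option linter.style.haveILetI false

namespace Cfsg.Agent.GLCusp

open Finset Module Polynomial

variable {F : Type*} [Field F] {M N : Type*} [AddCommGroup M] [Module F M] [AddCommGroup N]
  [Module F N]

theorem aeval_intertwine {A : End F M} {B : End F N} (e : M →ₗ[F] N)
    (h : ∀ x, B (e x) = e (A x)) (p : F[X]) (x : M) : aeval B p (e x) = e (aeval A p x) := by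
  induction p using Polynomial.induction_on generalizing x with
  | C a => simp
  | add p r hp hr => simp [hp, hr]
  | monomial n a ih =>
    rw [pow_succ, ← mul_assoc, map_mul (aeval B) (C a * X ^ n), map_mul (aeval A) (C a * X ^ n),
      aeval_X, aeval_X]
    simp only [Module.End.mul_apply]
    rw [h x]
    exact ih (A x)

variable (f : F[X]) [Fact (Irreducible f)]

instance finite_adjoinRoot [Finite F] : Finite (AdjoinRoot f) := by
  have : Module.Finite F (AdjoinRoot f) :=
    (AdjoinRoot.powerBasis (Fact.out (p := Irreducible f)).ne_zero).finite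
  exact Module.finite_of_finite F

theorem finrank_adjoinRoot : finrank F (AdjoinRoot f) = f.natDegree := by
  rw [(AdjoinRoot.powerBasis (Fact.out (p := Irreducible f)).ne_zero).finrank,
    AdjoinRoot.powerBasis_dim]

theorem natCard_adjoinRoot [Finite F] :
    Nat.card (AdjoinRoot f) = Nat.card F ^ f.natDegree := by
  have : Module.Finite F (AdjoinRoot f) :=
    (AdjoinRoot.powerBasis (Fact.out (p := Irreducible f)).ne_zero).finite
  rw [Module.natCard_eq_pow_finrank (K := F), finrank_adjoinRoot]

variable {f}

/-- The homomorphism from `F[X]/(f)` given by an endomorphism killed by `f`. -/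
noncomputable def rho (A : End F M) (h : aeval A f = 0) : AdjoinRoot f →ₐ[F] End F M :=
  Ideal.Quotient.liftₐ _ (aeval A) (fun p hp => by
    obtain ⟨r, rfl⟩ := Ideal.mem_span_singleton.1 hp
    rw [map_mul, h, zero_mul])

theorem rho_mk (A : End F M) (h : aeval A f = 0) (p : F[X]) :
    rho A h (AdjoinRoot.mk f p) = aeval A p := rfl

/-- `M` seen over `F[X]/(f)`. -/
def KSp (A : End F M) (_h : aeval A f = 0) : Type _ := M

variable (A : End F M) (h : aeval A f = 0)

instance : AddCommGroup (KSp A h) := inferInstanceAs (AddCommGroup M)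
noncomputable instance : Module F (KSp A h) := inferInstanceAs (Module F M)

instance [Finite M] : Finite (KSp A h) := inferInstanceAs (Finite M)

noncomputable instance : Module (AdjoinRoot f) (KSp A h) where
  smul c x := rho A h c (show M from x)
  one_smul x := by show rho A h 1 _ = _; rw [map_one]; rfl
  mul_smul a b x := by show rho A h (a * b) _ = rho A h a (rho A h b _); rw [map_mul]; rfl
  smul_zero c := (rho A h c).map_zero
  smul_add c x y := (rho A h c).map_add _ _
  add_smul a b x := by show rho A h (a + b) _ = rho A h a _ + rho A h b _; rw [map_add]; rfl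
  zero_smul x := by show rho A h 0 _ = _; rw [map_zero]; rfl

instance : IsScalarTower F (AdjoinRoot f) (KSp A h) :=
  ⟨fun a c x => by show rho A h (a • c) _ = a • rho A h c _; rw [map_smul]; rfl⟩

theorem mk_smul (p : F[X]) (x : KSp A h) :
    AdjoinRoot.mk f p • x = (aeval A p (show M from x) : M) := rfl

theorem root_smul (x : KSp A h) : AdjoinRoot.root f • x = (A (show M from x) : M) := by
  rw [← AdjoinRoot.mk_X, mk_smul, aeval_X]

theorem map_smul_of_root {U W : Type*} [AddCommGroup U] [Module F U] [Module (AdjoinRoot f) U]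
    [IsScalarTower F (AdjoinRoot f) U] [AddCommGroup W] [Module F W] [Module (AdjoinRoot f) W]
    [IsScalarTower F (AdjoinRoot f) W] (e : U →ₗ[F] W)
    (he : ∀ x, e (AdjoinRoot.root f • x) = AdjoinRoot.root f • e x) (c : AdjoinRoot f) (x : U) :
    e (c • x) = c • e x := by
  induction c using AdjoinRoot.induction_on with
  | ih p =>
    induction p using Polynomial.induction_on generalizing x with
    | C a =>
      rw [AdjoinRoot.mk_C, ← AdjoinRoot.algebraMap_eq, algebraMap_smul, algebraMap_smul, map_smul]
    | add p r hp hr => rw [map_add, add_smul, add_smul, map_add, hp, hr]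
    | monomial n a ih => rw [pow_succ, ← mul_assoc, map_mul, AdjoinRoot.mk_X, mul_smul, mul_smul,
        ih, he]

theorem aeval_eq_mk_smul {U : Type*} [AddCommGroup U] [Module F U] [Module (AdjoinRoot f) U]
    [IsScalarTower F (AdjoinRoot f) U] {B : End F U} (hB : ∀ x, B x = AdjoinRoot.root f • x)
    (p : F[X]) (x : U) : aeval B p x = AdjoinRoot.mk f p • x := by
  induction p using Polynomial.induction_on generalizing x with
  | C a => rw [aeval_C, AdjoinRoot.mk_C, ← AdjoinRoot.algebraMap_eq, algebraMap_smul]; rfl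
  | add p r hp hr => simp [hp, hr, add_smul]
  | monomial n a ih =>
    rw [pow_succ, ← mul_assoc, map_mul (aeval B) (C a * X ^ n),
      map_mul (AdjoinRoot.mk f) (C a * X ^ n), AdjoinRoot.mk_X, mul_smul, aeval_X,
      Module.End.mul_apply, hB, ih]

variable {V : Type*} [AddCommGroup V] [Module F V]

variable (f) in
/-- The socle `ker f(T)`. -/
noncomputable def socle (T : End F V) : Submodule F V := LinearMap.ker (aeval T f)

theorem mapsTo_socle (T : End F V) : ∀ x ∈ socle f T, T x ∈ socle f T := by
  intro x hx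
  rw [socle, LinearMap.mem_ker] at hx ⊢
  rw [aeval_intertwine T (fun _ => rfl) f x, hx, map_zero]

/-- `T` on the socle. -/
noncomputable def socleEnd (T : End F V) : End F (socle f T) := T.restrict (mapsTo_socle T)

theorem aeval_socleEnd (T : End F V) : aeval (socleEnd (f := f) T) f = 0 := by
  refine LinearMap.ext fun x => Subtype.ext ?_
  have := aeval_intertwine (A := socleEnd (f := f) T) (B := T) (socle f T).subtype (fun _ => rfl) f x
  rw [LinearMap.zero_apply, Submodule.coe_zero]
  exact this.symm.trans (LinearMap.mem_ker.1 x.2)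

variable (f) in
/-- The socle over `F[X]/(f)`. -/
abbrev SocleSp (T : End F V) : Type _ := KSp (socleEnd (f := f) T) (aeval_socleEnd T)

/-- The inclusion of the socle. -/
noncomputable def socleIncl (T : End F V) : SocleSp f T →ₗ[F] V := (socle f T).subtype

theorem socleIncl_injective (T : End F V) : Function.Injective (socleIncl (f := f) T) :=
  Subtype.val_injective

theorem socleIncl_root (T : End F V) (x : SocleSp f T) :
    socleIncl T (AdjoinRoot.root f • x) = T (socleIncl T x) := by
  rw [root_smul]; rfl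

theorem range_socleIncl (T : End F V) : LinearMap.range (socleIncl (f := f) T) = socle f T :=
  (socle f T).range_subtype

/-- `dim ker f(T)` over `F[X]/(f)`. -/
noncomputable def socleDim (f : F[X]) (T : End F V) : ℕ := finrank F (socle f T) / f.natDegree

theorem finrank_socleSp [FiniteDimensional F V] (T : End F V) :
    finrank (AdjoinRoot f) (SocleSp f T) = socleDim f T := by
  have h : finrank F (AdjoinRoot f) * finrank (AdjoinRoot f) (SocleSp f T) =
      finrank F (SocleSp f T) := Module.finrank_mul_finrank _ _ _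
  rw [finrank_adjoinRoot] at h
  rw [socleDim, show finrank F (socle f T) = finrank F (SocleSp f T) from rfl, ← h,
    Nat.mul_div_cancel_left _ (Fact.out (p := Irreducible f)).natDegree_pos]

section EqMaps

variable (U : Type*) [AddCommGroup U] [Module F U] [Module (AdjoinRoot f) U]
  [IsScalarTower F (AdjoinRoot f) U]

variable (f) in
/-- Equivariant embeddings. -/
def EqMaps (T : End F V) : Type _ :=
  {e : U →ₗ[F] V // Function.Injective e ∧ ∀ x, T (e x) = e (AdjoinRoot.root f • x)}

variable {U}

theorem range_le_socle {T : End F V} (e : EqMaps f U T) : LinearMap.range e.1 ≤ socle f T := by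
  rintro _ ⟨x, rfl⟩
  let B : End F U :=
    { toFun := fun x => AdjoinRoot.root f • x
      map_add' := smul_add _
      map_smul' := fun a x => (smul_comm a _ x).symm }
  rw [socle, LinearMap.mem_ker, aeval_intertwine e.1 (A := B) e.2.2,
    aeval_eq_mk_smul (fun _ => rfl), AdjoinRoot.mk_self, zero_smul, map_zero]

/-- An equivariant embedding as a linear map into the socle. -/
noncomputable def toSocle {T : End F V} (e : EqMaps f U T) :
    U →ₗ[AdjoinRoot f] SocleSp f T :=
  let e₀ : U →ₗ[F] SocleSp f T :=
    e.1.codRestrict (socle f T) (fun x => range_le_socle e ⟨x, rfl⟩)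
  { toFun := e₀
    map_add' := e₀.map_add
    map_smul' := fun c x => map_smul_of_root e₀ (fun y => socleIncl_injective T (by
      rw [socleIncl_root]; exact (e.2.2 y).symm)) c x }

theorem socleIncl_toSocle {T : End F V} (e : EqMaps f U T) (x : U) :
    socleIncl T (toSocle e x) = e.1 x := rfl

theorem linearCombination_equivFun {j : ℕ} (b : Basis (Fin j) (AdjoinRoot f) U) (T : End F V)
    (g : U →ₗ[AdjoinRoot f] SocleSp f T) :
    (Fintype.linearCombination (AdjoinRoot f) (g ∘ b)).comp b.equivFun.toLinearMap = g := by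
  refine b.ext fun l => ?_
  simp [Fintype.linearCombination_apply, Basis.equivFun_apply, Finsupp.single_apply]

/-- Equivariant embeddings are independent tuples in the socle. -/
noncomputable def eqMapsEquiv (T : End F V) {j : ℕ} (b : Basis (Fin j) (AdjoinRoot f) U) :
    EqMaps f U T ≃ {v : Fin j → SocleSp f T // LinearIndependent (AdjoinRoot f) v} where
  toFun e := ⟨fun l => toSocle e (b l), b.linearIndependent.map' _ (LinearMap.ker_eq_bot.2
    (fun x y hxy => e.2.1 (congrArg (socleIncl T) hxy)))⟩
  invFun v := ⟨(socleIncl T).comp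
      (((Fintype.linearCombination (AdjoinRoot f) v.1).comp b.equivFun.toLinearMap).restrictScalars F),
    (socleIncl_injective T).comp ((linearIndependent_iff_injective_fintypeLinearCombination.1 v.2).comp
      b.equivFun.injective), fun x => by
    simp only [LinearMap.comp_apply, LinearMap.coe_restrictScalars, map_smul, socleIncl_root]⟩
  left_inv e := by
    refine Subtype.ext (LinearMap.ext fun x => ?_)
    show socleIncl T (((Fintype.linearCombination (AdjoinRoot f) (toSocle e ∘ b)).comp
      b.equivFun.toLinearMap) x) = e.1 x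
    rw [linearCombination_equivFun, socleIncl_toSocle]
  right_inv v := by
    refine Subtype.ext (funext fun l => socleIncl_injective T ?_)
    show socleIncl T (((Fintype.linearCombination (AdjoinRoot f) v.1).comp
      b.equivFun.toLinearMap) (b l)) = socleIncl T (v.1 l)
    simp [Fintype.linearCombination_apply, Basis.equivFun_apply, Finsupp.single_apply]

theorem range_eqMapsEquiv (T : End F V) {j : ℕ} (b : Basis (Fin j) (AdjoinRoot f) U)
    (e : EqMaps f U T) : LinearMap.range e.1 =
      ((Submodule.span (AdjoinRoot f) (Set.range (eqMapsEquiv T b e).1)).restrictScalars F).map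
        (socleIncl T) := by
  have h : Submodule.span (AdjoinRoot f) (Set.range (eqMapsEquiv T b e).1) =
      LinearMap.range (toSocle e) := by
    rw [LinearMap.range_eq_map, ← b.span_eq, LinearMap.map_span, ← Set.range_comp]
    rfl
  rw [h]
  ext y
  simp only [LinearMap.mem_range, Submodule.mem_map, Submodule.restrictScalars_mem]
  exact ⟨fun ⟨x, hx⟩ => ⟨toSocle e x, ⟨x, rfl⟩, hx⟩, fun ⟨_, ⟨x, rfl⟩, hx⟩ => ⟨x, hx⟩⟩

end EqMaps

/-- The predicate on the subspaces forming the chains. -/
def Avoid (T : End F V) (D W : Submodule F V) : Prop :=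
  W ≠ ⊥ ∧ (∀ x ∈ W, T x ∈ W) ∧ Disjoint D W

theorem aeval_mem {T : End F V} {W : Submodule F V} (hW : ∀ x ∈ W, T x ∈ W) (p : F[X]) :
    ∀ x ∈ W, aeval T p x ∈ W := by
  induction p using Polynomial.induction_on with
  | C a => intro x hx; rw [aeval_C]; exact W.smul_mem a hx
  | add p r hp hr => intro x hx; rw [map_add]; exact W.add_mem (hp x hx) (hr x hx)
  | monomial n a ih =>
    intro x hx
    rw [pow_succ, ← mul_assoc, map_mul, aeval_X]
    exact ih _ (hW x hx)

variable [Finite F] [Finite V]

theorem chainSum_avoid_of_not_nilpotent {T : End F V} (hT : ¬ IsNilpotent (aeval T f))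
    {D : Submodule F V} (hD : D ≤ socle f T) : chainSum (Avoid T D) = 0 := by
  set B := aeval T f with hBdef
  let n := finrank F V
  let H := LinearMap.range (B ^ n)
  have hH : H ≠ ⊥ := fun h => hT ⟨n, LinearMap.range_eq_bot.1 h⟩
  have hHinv : ∀ x ∈ H, T x ∈ H := by
    rintro _ ⟨y, rfl⟩
    refine ⟨T y, ?_⟩
    rw [hBdef, ← map_pow]
    exact aeval_intertwine T (fun _ => rfl) (f ^ n) y
  have hker : ∀ y, B ((B ^ n) y) = 0 → (B ^ n) y = 0 := by
    intro y hy
    have : y ∈ LinearMap.ker (B ^ (n + 1)) := by
      rw [LinearMap.mem_ker, pow_succ']; exact hy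
    rw [Module.End.ker_pow_eq_ker_pow_finrank_of_le (Nat.le_succ n)] at this
    exact this
  have hinjH : ∀ x ∈ H, B x = 0 → x = 0 := by
    rintro _ ⟨y, rfl⟩ h; exact hker y h
  have hdis : ∀ W : Submodule F V, (∀ x ∈ W, T x ∈ W) → Disjoint D W → Disjoint D (W ⊔ H) := by
    intro W hW hd
    rw [Submodule.disjoint_def] at hd ⊢
    intro x hxD hx
    obtain ⟨w, hw, h, hh, rfl⟩ := Submodule.mem_sup.1 hx
    have hBW : ∀ z ∈ W, B z ∈ W := aeval_mem hW f
    have hBH : ∀ z ∈ H, B z ∈ H := aeval_mem hHinv f
    let Z := W ⊓ H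
    let BZ : Z →ₗ[F] Z := B.restrict (p := Z) (q := Z) (fun z hz => ⟨hBW z hz.1, hBH z hz.2⟩)
    have hinj : Function.Injective BZ := by
      rw [← LinearMap.ker_eq_bot, LinearMap.ker_eq_bot']
      intro z hz
      exact Subtype.ext (hinjH z.1 z.2.2 (congrArg Subtype.val hz))
    have h0 : B w + B h = 0 := by rw [← map_add]; exact LinearMap.mem_ker.1 (hD hxD)
    have hBh : B h ∈ Z := ⟨by rw [eq_neg_of_add_eq_zero_right h0]; exact W.neg_mem (hBW w hw), hBH h hh⟩
    obtain ⟨z, hz⟩ := (LinearMap.injective_iff_surjective.1 hinj) ⟨B h, hBh⟩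
    have hz' : B (z : V) = B h := congrArg Subtype.val hz
    have : h = (z : V) := sub_eq_zero.1 (hinjH _ (H.sub_mem hh z.2.2) (by rw [map_sub, hz', sub_self]))
    exact hd _ hxD (W.add_mem hw (this ▸ z.2.1))
  have hinvsup : ∀ W : Submodule F V, (∀ x ∈ W, T x ∈ W) → ∀ x ∈ W ⊔ H, T x ∈ W ⊔ H := by
    intro W hW x hx
    obtain ⟨w, hw, h, hh, rfl⟩ := Submodule.mem_sup.1 hx
    rw [map_add]
    exact Submodule.add_mem_sup (hW w hw) (hHinv h hh)
  rw [chainSum_retract_up (fun W => W ⊔ H)
    (fun W hW => ⟨ne_bot_of_le_ne_bot hW.1 le_sup_left, hinvsup W hW.2.1, hdis W hW.2.1 hW.2.2⟩)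
    (fun W _ => le_sup_left) (fun W W' _ _ h => sup_le_sup_right h H)
    (fun W _ => by rw [sup_assoc, sup_idem])]
  refine chainSum_eq_zero_of_min (h := H) ⟨⟨hH, hHinv, ?_⟩, sup_idem H⟩
    (fun W hW => sup_eq_left.1 hW.2)
  have := hdis ⊥ (fun x hx => by simp [(Submodule.mem_bot F).1 hx]) disjoint_bot_right
  rwa [bot_sup_eq] at this

theorem sum_chainSum_avoid {U : Type*} [AddCommGroup U] [Module F U] [Module (AdjoinRoot f) U]
    [IsScalarTower F (AdjoinRoot f) U] {T : End F V} (hT : IsNilpotent (aeval T f)) {j : ℕ}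
    (b : Basis (Fin j) (AdjoinRoot f) U) [Fintype (EqMaps f U T)] {N : ℕ}
    (hN : finrank F V ≤ N) :
    ∑ e : EqMaps f U T, (chainSum (Avoid T (LinearMap.range e.1)) : ℂ) =
      ∑ i ∈ range (N + 1), alt ((Nat.card F : ℂ) ^ f.natDegree) i *
        fall ((Nat.card F : ℂ) ^ f.natDegree) (j + i) (socleDim f T) := by
  classical
  have := Fintype.ofFinite {v : Fin j → SocleSp f T // LinearIndependent (AdjoinRoot f) v}
  have hcard : ((Nat.card (AdjoinRoot f) : ℕ) : ℂ) = (Nat.card F : ℂ) ^ f.natDegree := by
    rw [natCard_adjoinRoot]; push_cast; rfl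
  have hS : finrank (AdjoinRoot f) (SocleSp f T) ≤ N := by
    rw [finrank_socleSp]
    exact (Nat.div_le_self _ _).trans ((socle f T).finrank_le.trans hN)
  rw [← finrank_socleSp, ← hcard, ← sum_avoid j hS, ← (eqMapsEquiv T b).sum_comp]
  refine sum_congr rfl fun e _ => ?_
  set v := eqMapsEquiv T b e
  let S := socle f T
  have hP : ∀ W : Submodule F V, Avoid T (LinearMap.range e.1) W →
      Avoid T (LinearMap.range e.1) (W ⊓ S) := by
    rintro W ⟨hne, hinv, hd⟩
    refine ⟨?_, fun x hx => ⟨hinv x hx.1, mapsTo_socle T x hx.2⟩, hd.mono_right inf_le_left⟩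
    intro hbot
    refine hne (eq_bot_iff.2 fun w hw => ?_)
    obtain ⟨m, hm⟩ := hT
    have hmem : ∀ z ∈ W, aeval T f z ∈ W := aeval_mem hinv f
    have key : ∀ r, ∀ z ∈ W, ((aeval T f) ^ r) z = 0 → z = 0 := by
      intro r
      induction r with
      | zero => intro z _ hz; simpa using hz
      | succ r ih =>
        intro z hz h0
        rw [pow_succ, Module.End.mul_apply] at h0
        have hz' : aeval T f z = 0 := ih _ (hmem z hz) h0
        have : z ∈ W ⊓ S := ⟨hz, hz'⟩
        rwa [hbot, Submodule.mem_bot] at this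
    exact (Submodule.mem_bot F).2 (key m w hw (by rw [hm]; rfl))
  rw [chainSum_retract_down (fun W => W ⊓ S) hP (fun W _ => inf_le_left)
    (fun W W' _ _ h => inf_le_inf_right S h) (fun W _ => by rw [inf_assoc, inf_idem])]
  congr 1
  let emb : Submodule (AdjoinRoot f) (SocleSp f T) ↪o Submodule F V :=
    OrderEmbedding.ofMapLEIff (fun Y => (Y.restrictScalars F).map (socleIncl T)) (fun Y Y' => by
      rw [Submodule.map_le_map_iff_of_injective (socleIncl_injective T)]; rfl)
  have hdisj : ∀ Y : Submodule (AdjoinRoot f) (SocleSp f T), Disjoint (LinearMap.range e.1) (emb Y) ↔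
      Disjoint (Submodule.span (AdjoinRoot f) (Set.range v.1)) Y := by
    intro Y
    rw [range_eqMapsEquiv T b e]
    show Disjoint _ ((Y.restrictScalars F).map (socleIncl T)) ↔ _
    rw [disjoint_iff, disjoint_iff, ← Submodule.map_inf _ (socleIncl_injective (f := f) T),
      ← Submodule.map_bot (socleIncl (f := f) T),
      (Submodule.map_injective_of_injective (socleIncl_injective (f := f) T)).eq_iff]
    exact ⟨fun h => Submodule.restrictScalars_injective F _ _ (by simpa using h),
      fun h => by rw [← Submodule.restrictScalars_inf, h]; rfl⟩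
  refine chainSum_map emb _ _ (fun W => ⟨?_, ?_⟩)
  · rintro ⟨⟨hne, hinv, hd⟩, hWS⟩
    have hWS' : W ≤ S := inf_eq_left.1 hWS
    let Y₀ : Submodule F (SocleSp f T) := W.comap (socleIncl T)
    let Y : Submodule (AdjoinRoot f) (SocleSp f T) :=
      { toAddSubmonoid := Y₀.toAddSubmonoid
        smul_mem' := fun c x hx => by
          induction c using AdjoinRoot.induction_on with
          | ih p =>
            show socleIncl T (AdjoinRoot.mk f p • x) ∈ W
            have := aeval_intertwine (A := socleEnd (f := f) T) (B := T) (socle f T).subtype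
              (fun _ => rfl) p x
            show (socle f T).subtype (aeval (socleEnd T) p x) ∈ W
            rw [← this]
            exact aeval_mem hinv p _ hx }
    have hemb : emb Y = W := by
      show Y₀.map (socleIncl T) = W
      rw [Submodule.map_comap_eq, range_socleIncl, inf_eq_right]
      exact hWS'
    refine ⟨Y, ⟨fun h => hne ?_, ?_⟩, hemb⟩
    · rw [← hemb, h]; show (Submodule.restrictScalars F ⊥).map _ = ⊥; simp
    · rwa [← hdisj, hemb]
  · rintro ⟨Y, ⟨hne, hd⟩, rfl⟩
    refine ⟨⟨fun h => hne ?_, ?_, (hdisj Y).2 hd⟩, ?_⟩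
    · exact emb.injective (h.trans (by show ⊥ = (Submodule.restrictScalars F ⊥).map _; simp))
    · rintro _ ⟨y, hy, rfl⟩
      exact ⟨AdjoinRoot.root f • y, Y.smul_mem _ hy, socleIncl_root T y⟩
    · rw [inf_eq_left]
      rintro _ ⟨y, -, rfl⟩
      exact (range_socleIncl T).le ⟨y, rfl⟩

variable (f) in
/-- The number of endomorphisms of `F^r` on which `f` is nilpotent. -/
noncomputable def nilCard (r : ℕ) : ℕ :=
  Nat.card {T : End F (Fin r → F) // IsNilpotent (aeval T f)}

theorem nilCard_congr {W : Type*} [AddCommGroup W] [Module F W] [FiniteDimensional F W] {r : ℕ}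
    (hr : finrank F W = r) :
    Nat.card {T : End F W // IsNilpotent (aeval T f)} = nilCard f r := by
  let Φ : W ≃ₗ[F] (Fin r → F) := LinearEquiv.ofFinrankEq _ _ (by simpa using hr)
  refine Nat.card_congr (Equiv.subtypeEquiv (Φ.conjAlgEquiv F).toEquiv fun T => ?_)
  show _ ↔ IsNilpotent (aeval ((Φ.conjAlgEquiv F) T) f)
  rw [← AlgEquiv.coe_toAlgHom, Polynomial.aeval_algHom_apply, AlgEquiv.coe_toAlgHom]
  exact (IsNilpotent.map_iff (Φ.conjAlgEquiv F).injective).symm

/-- Endomorphisms extending the action on an embedded `U` with `f` nilpotent. -/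
theorem card_extensions {U : Type*} [AddCommGroup U] [Module F U] [Module (AdjoinRoot f) U]
    [IsScalarTower F (AdjoinRoot f) U] (e : U →ₗ[F] V) (he : Function.Injective e) :
    Nat.card {T : End F V // IsNilpotent (aeval T f) ∧ ∀ x, T (e x) = e (AdjoinRoot.root f • x)} =
      Nat.card F ^ (finrank F U * (finrank F V - finrank F U)) *
        nilCard f (finrank F V - finrank F U) := by
  haveI : Finite U := Finite.of_injective e he
  obtain ⟨R, hR⟩ := Submodule.exists_isCompl (LinearMap.range e)
  let Φ : (U × R) ≃ₗ[F] V := ((LinearEquiv.ofInjective e he).prodCongr (LinearEquiv.refl F R)).trans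
    (Submodule.prodEquivOfIsCompl _ _ hR)
  have hΦ : ∀ x, Φ (x, 0) = e x := fun x => by simp [Φ]
  have hrank : finrank F R = finrank F V - finrank F U := by
    have := Φ.finrank_eq
    rw [Module.finrank_prod] at this
    omega
  let B : End F U :=
    { toFun := fun x => AdjoinRoot.root f • x
      map_add' := smul_add _
      map_smul' := fun a x => (smul_comm a _ x).symm }
  have hB : ∀ x, aeval B f x = 0 := fun x => by
    rw [aeval_eq_mk_smul (B := B) (fun _ => rfl), AdjoinRoot.mk_self, zero_smul]
  have hL : Nat.card F ^ (finrank F U * finrank F R) = Nat.card (R →ₗ[F] U) := by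
    rw [Module.natCard_eq_pow_finrank (K := F) (V := R →ₗ[F] U), Module.finrank_linearMap, mul_comm]
  rw [← nilCard_congr (f := f) hrank, ← hrank, hL, ← Nat.card_prod]
  symm
  let build : (R →ₗ[F] U) → End F R → End F (U × R) := fun h T' =>
    (B.comp (LinearMap.fst F U R) + h.comp (LinearMap.snd F U R)).prod (T'.comp (LinearMap.snd F U R))
  have hsnd : ∀ (h : R →ₗ[F] U) (T' : End F R) (p : F[X]) (x : U × R),
      aeval T' p x.2 = (aeval (build h T') p x).2 := fun h T' p x =>
    aeval_intertwine (LinearMap.snd F U R) (fun _ => rfl) p x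
  have hinl : ∀ (h : R →ₗ[F] U) (T' : End F R) (x : U), aeval (build h T') f (x, 0) = 0 := by
    intro h T' x
    have := aeval_intertwine (B := build h T') (A := B) (LinearMap.inl F U R)
      (fun y => by simp [build]) f x
    rw [hB, map_zero] at this
    exact this
  have hnil : ∀ h T', IsNilpotent (aeval (build h T') f) ↔ IsNilpotent (aeval T' f) := by
    intro h T'
    constructor
    · rintro ⟨m, hm⟩
      refine ⟨m, LinearMap.ext fun y => ?_⟩
      have := hsnd h T' (f ^ m) ((0 : U), y)
      rw [map_pow, map_pow, hm] at this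
      exact this
    · rintro ⟨m, hm⟩
      refine ⟨m + 1, LinearMap.ext fun x => ?_⟩
      have h2 := hsnd h T' (f ^ m) x
      rw [map_pow, map_pow, hm, LinearMap.zero_apply] at h2
      rw [pow_succ', Module.End.mul_apply]
      generalize ((aeval (build h T') f) ^ m) x = y at h2
      obtain ⟨y₁, y₂⟩ := y
      simp only at h2
      subst h2
      exact hinl h T' y₁
  have hconj : ∀ T : End F (U × R),
      IsNilpotent (aeval ((Φ.conjAlgEquiv F) T) f) ↔ IsNilpotent (aeval T f) := fun T => by
    rw [← AlgEquiv.coe_toAlgHom, Polynomial.aeval_algHom_apply, AlgEquiv.coe_toAlgHom]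
    exact IsNilpotent.map_iff (Φ.conjAlgEquiv F).injective
  have hrebuild : ∀ T : End F (U × R), (∀ x, T (x, 0) = (AdjoinRoot.root f • x, 0)) →
      build ((LinearMap.fst F U R).comp (T.comp (LinearMap.inr F U R)))
        ((LinearMap.snd F U R).comp (T.comp (LinearMap.inr F U R))) = T := by
    intro T hT
    refine LinearMap.ext fun x => ?_
    obtain ⟨x₁, x₂⟩ := x
    have : T (x₁, x₂) = T (x₁, 0) + T (0, x₂) := by rw [← map_add]; simp
    rw [this, hT]
    ext <;> simp [build, B]
  refine Nat.card_congr
    { toFun := fun p => ⟨(Φ.conjAlgEquiv F) (build p.1 p.2.1), (hconj _).2 ((hnil _ _).2 p.2.2), fun x => ?_⟩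
      invFun := fun T => ((LinearMap.fst F U R).comp (((Φ.conjAlgEquiv F).symm T.1).comp (LinearMap.inr F U R)),
        ⟨(LinearMap.snd F U R).comp (((Φ.conjAlgEquiv F).symm T.1).comp (LinearMap.inr F U R)), ?_⟩)
      left_inv := fun p => ?_
      right_inv := fun T => ?_ }
  · rw [← hΦ, ← hΦ, LinearEquiv.conjAlgEquiv_apply]
    simp [build, B]
  · have hT : ∀ x, (Φ.conjAlgEquiv F).symm T.1 (x, 0) = (AdjoinRoot.root f • x, 0) := fun x => by
      apply Φ.injective
      rw [hΦ, ← T.2.2 x, ← hΦ]
      simp [LinearEquiv.symm_conjAlgEquiv, LinearEquiv.conjAlgEquiv_apply]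
    rw [← hnil ((LinearMap.fst F U R).comp (((Φ.conjAlgEquiv F).symm T.1).comp (LinearMap.inr F U R))),
      hrebuild _ hT, ← hconj, AlgEquiv.apply_symm_apply]
    exact T.2.1
  · refine Prod.ext ?_ (Subtype.ext ?_) <;>
      · simp only [AlgEquiv.symm_apply_apply]
        ext y
        simp [build]
  · have hT : ∀ x, (Φ.conjAlgEquiv F).symm T.1 (x, 0) = (AdjoinRoot.root f • x, 0) := fun x => by
      apply Φ.injective
      rw [hΦ, ← T.2.2 x, ← hΦ]
      simp [LinearEquiv.symm_conjAlgEquiv, LinearEquiv.conjAlgEquiv_apply]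
    exact Subtype.ext (by simp only [hrebuild _ hT, AlgEquiv.apply_symm_apply])

end Cfsg.Agent.GLCusp
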