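/-
The endomorphisms of `F^n` on which an irreducible `f` is nilpotent, counted by socle dimension.
-/
import Cfsg.Agent.Lib.GLCuspidal.Primary

set_option autoImplicit false
set_option linter.unusedSectionVars false
set_option linter.style.haveILetI false

namespace Cfsg.Agent.GLCusp

open Finset Module Polynomial

variable {F : Type*} [Field F] [Finite F] {f : F[X]} [Fact (Irreducible f)]
variable {V : Type*} [AddCommGroup V] [Module F V] [Finite V]

local notation "qC" => ((Nat.card F : ℕ) : ℂ)

theorem natDegree_mul_socleDim (T : End F V) :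
    f.natDegree * socleDim f T = finrank F (socle f T) := by
  haveI : Module.Finite F V := Module.Finite.of_finite
  have h : finrank F (AdjoinRoot f) * finrank (AdjoinRoot f) (SocleSp f T) =
      finrank F (SocleSp f T) := Module.finrank_mul_finrank _ _ _
  rw [finrank_adjoinRoot, finrank_socleSp] at h
  exact h

theorem natDegree_mul_socleDim_le (T : End F V) :
    f.natDegree * socleDim f T ≤ finrank F V := by
  haveI : Module.Finite F V := Module.Finite.of_finite
  rw [natDegree_mul_socleDim]
  exact (socle f T).finrank_le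

theorem socleDim_le (T : End F V) : socleDim f T ≤ finrank F V :=
  (Nat.le_mul_of_pos_left _ (Fact.out (p := Irreducible f)).natDegree_pos).trans
    (natDegree_mul_socleDim_le T)

theorem socleDim_pos {T : End F V} (hT : IsNilpotent (aeval T f)) (hV : 0 < finrank F V) :
    1 ≤ socleDim f T := by
  haveI : Module.Finite F V := Module.Finite.of_finite
  by_contra h0
  have hsoc : socle f T = ⊥ := by
    rw [← Submodule.finrank_eq_zero, ← natDegree_mul_socleDim, show socleDim f T = 0 by omega,
      mul_zero]
  obtain ⟨m, hm⟩ := hT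
  have hinj : Function.Injective (aeval T f) := LinearMap.ker_eq_bot.1 hsoc
  have hpow : ∀ r : ℕ, Function.Injective ⇑((aeval T f) ^ r) := fun r => by
    rw [Module.End.coe_pow]; exact hinj.iterate r
  haveI : Nontrivial V := Module.finrank_pos_iff.1 hV
  obtain ⟨x, hx⟩ := exists_ne (0 : V)
  exact hx (hpow m (by rw [hm]; simp))

theorem card_injective {U : Type*} [AddCommGroup U] [Module F U] [Module.Finite F U] :
    (Nat.card {e : U →ₗ[F] V // Function.Injective e} : ℂ) =
      fall qC (finrank F U) (finrank F V) := by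
  rw [← card_indep (Kf := F) (S := V)]
  congr 1
  let b := Module.finBasis F U
  refine Nat.card_congr (Equiv.subtypeEquiv (b.constr F).symm.toEquiv fun e => ?_)
  show _ ↔ LinearIndependent F (fun l => e (b l))
  refine ⟨fun h => b.linearIndependent.map' e (LinearMap.ker_eq_bot.2 h), fun h => ?_⟩
  rw [← LinearMap.ker_eq_bot, LinearMap.ker_eq_bot']
  intro x hx
  rw [← b.sum_repr x, map_sum] at hx
  simp only [map_smul] at hx
  have h0 := Fintype.linearIndependent_iff.1 h _ hx
  rw [← b.sum_repr x]
  exact sum_eq_zero fun l _ => by rw [h0 l, zero_smul]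

/-- The moments of the socle dimension. -/
theorem sum_fall_socleDim [Fintype (End F V)] [DecidablePred fun T : End F V => IsNilpotent (aeval T f)]
    (i : ℕ) :
    ∑ T ∈ univ.filter (fun T : End F V => IsNilpotent (aeval T f)),
      fall (qC ^ f.natDegree) i (socleDim f T) =
    fall qC (f.natDegree * i) (finrank F V) *
      (qC ^ (f.natDegree * i * (finrank F V - f.natDegree * i)) *
        (nilCard f (finrank F V - f.natDegree * i) : ℂ)) := by
  classical
  haveI : Module.Finite F (AdjoinRoot f) := Module.Finite.of_finite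
  haveI : Module.Finite F V := Module.Finite.of_finite
  haveI : Finite (Fin i → AdjoinRoot f) := inferInstance
  let b : Basis (Fin i) (AdjoinRoot f) (Fin i → AdjoinRoot f) := Pi.basisFun _ _
  have hU : finrank F (Fin i → AdjoinRoot f) = f.natDegree * i := by
    rw [Module.finrank_pi_fintype]; simp [finrank_adjoinRoot, mul_comm]
  have e1 : ∀ T : End F V, fall (qC ^ f.natDegree) i (socleDim f T) =
      (Nat.card (EqMaps f (Fin i → AdjoinRoot f) T) : ℂ) := by
    intro T
    rw [Nat.card_congr (eqMapsEquiv T b), card_indep, natCard_adjoinRoot, finrank_socleSp]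
    push_cast; rfl
  simp only [e1]
  have hfinE : ∀ T : End F V, Finite (EqMaps f (Fin i → AdjoinRoot f) T) := fun T =>
    Finite.of_equiv _ (eqMapsEquiv T b).symm
  haveI : Finite ((Fin i → AdjoinRoot f) →ₗ[F] V) := Finite.of_injective _ DFunLike.coe_injective
  calc ∑ T ∈ univ.filter (fun T : End F V => IsNilpotent (aeval T f)),
        (Nat.card (EqMaps f (Fin i → AdjoinRoot f) T) : ℂ)
      = (Nat.card (Σ T : {T : End F V // IsNilpotent (aeval T f)},
          EqMaps f (Fin i → AdjoinRoot f) T.1) : ℂ) := by
        rw [Nat.card_sigma, Nat.cast_sum]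
        exact sum_subtype _ (fun T => by simp)
          (fun T : End F V => (Nat.card (EqMaps f (Fin i → AdjoinRoot f) T) : ℂ))
    _ = (Nat.card (Σ e : {e : (Fin i → AdjoinRoot f) →ₗ[F] V // Function.Injective e},
          {T : End F V // IsNilpotent (aeval T f) ∧
            ∀ x, T (e.1 x) = e.1 (AdjoinRoot.root f • x)}) : ℂ) := by
        congr 1
        exact Nat.card_congr
          { toFun := fun p => ⟨⟨p.2.1, p.2.2.1⟩, ⟨p.1.1, p.1.2, p.2.2.2⟩⟩
            invFun := fun p => ⟨⟨p.2.1, p.2.2.1⟩, ⟨p.1.1, p.1.2, p.2.2.2⟩⟩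
            left_inv := fun _ => rfl
            right_inv := fun _ => rfl }
    _ = _ := by
        haveI := Fintype.ofFinite {e : (Fin i → AdjoinRoot f) →ₗ[F] V // Function.Injective e}
        rw [Nat.card_sigma, Nat.cast_sum, sum_congr rfl (fun e _ => ?_), sum_const, card_univ,
          nsmul_eq_mul, ← Nat.card_eq_fintype_card, card_injective, hU]
        rw [card_extensions e.1 e.2, hU]
        push_cast; rfl

variable (f) in
/-- `|{T nilpotent for f}| / |GL_r|`. -/
noncomputable def nilRatio (r : ℕ) : ℂ := (nilCard f r : ℂ) / fall qC r r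

theorem moment_eq {n i : ℕ} (h : i ≤ n) :
    fall qC i n * (qC ^ (i * (n - i)) * (nilCard f (n - i) : ℂ)) =
      fall qC n n * nilRatio f (n - i) := by
  have := fall_self_ne_zero (generic_card (Kf := F)) (n - i)
  have e := fall_add_of_le (Q := qC) (n - i) h
  rw [Nat.add_sub_cancel' h] at e
  rw [e, nilRatio]
  field_simp

theorem generic_pow : Generic (qC ^ f.natDegree) :=
  (generic_card (Kf := F)).pow (Fact.out (p := Irreducible f)).natDegree_pos.ne'

/-- The number of endomorphisms with given socle dimension, through the transform. -/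
theorem sum_ite_socleDim {n k : ℕ} [Fintype (End F (Fin n → F))]
    [DecidablePred fun T : End F (Fin n → F) => IsNilpotent (aeval T f)]
    (hk : f.natDegree * k ≤ n) :
    ∑ T ∈ univ.filter (fun T : End F (Fin n → F) => IsNilpotent (aeval T f)),
      (if socleDim f T = k then fall (qC ^ f.natDegree) k k else 0) =
    fall qC n n * transform (qC ^ f.natDegree) f.natDegree (nilRatio f) k (n - f.natDegree * k) := by
  classical
  have hn : ∀ T : End F (Fin n → F), socleDim f T ≤ n := fun T => by
    simpa using socleDim_le (f := f) T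
  simp only [← sum_alt_inv_fall (generic_pow (f := f)) (hn _)]
  rw [sum_comm, transform_ext _ k (Fact.out (p := Irreducible f)).natDegree_pos
    (Nat.sub_le n (f.natDegree * k)), mul_sum]
  refine sum_congr rfl fun s _ => ?_
  rw [← mul_sum, sum_fall_socleDim, Module.finrank_fin_fun]
  have e : f.natDegree * (k + s) = f.natDegree * k + f.natDegree * s := mul_add _ _ _
  split_ifs with hs
  · rw [moment_eq (show f.natDegree * (k + s) ≤ n by omega), e, Nat.sub_add_eq]
    ring
  · rw [fall_of_lt (show n < f.natDegree * (k + s) by omega)]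
    ring

theorem transform_zero (r : ℕ) :
    transform (qC ^ f.natDegree) f.natDegree (nilRatio f) 0 r = if r = 0 then 1 else 0 := by
  classical
  rcases eq_or_ne r 0 with rfl | hr
  · rw [if_pos rfl]
    have : nilCard f 0 = 1 := by
      rw [nilCard, Nat.card_eq_one_iff_unique]
      exact ⟨⟨fun a b => Subtype.ext (Subsingleton.elim _ _)⟩, ⟨⟨0, ⟨1, Subsingleton.elim _ _⟩⟩⟩⟩
    simp [transform, alt, nilRatio, this]
  · rw [if_neg hr]
    haveI : Finite (End F (Fin r → F)) := Finite.of_injective _ DFunLike.coe_injective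
    have := Fintype.ofFinite (End F (Fin r → F))
    have h := sum_ite_socleDim (f := f) (n := r) (k := 0) (by simp)
    rw [mul_zero, Nat.sub_zero, sum_eq_zero (fun T hT => ?_), eq_comm, mul_eq_zero] at h
    · exact h.resolve_left (fall_self_ne_zero (generic_card (Kf := F)) r)
    · have hpos := socleDim_pos (mem_filter.1 hT).2 (by simp; omega)
      rw [if_neg (by omega)]

/-- The second moment of `psi` over the endomorphisms on which `f` is nilpotent. -/
theorem sum_psi_sq {n : ℕ} (hn : 1 ≤ n) [Fintype (End F (Fin n → F))]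
    [DecidablePred fun T : End F (Fin n → F) => IsNilpotent (aeval T f)] :
    ∑ T ∈ univ.filter (fun T : End F (Fin n → F) => IsNilpotent (aeval T f)),
      psi (qC ^ f.natDegree) (socleDim f T) ^ 2 =
    if f.natDegree ∣ n then fall qC n n * ((n / f.natDegree : ℕ) : ℂ) / (qC ^ n - 1) else 0 := by
  classical
  set d := f.natDegree with hd
  set Q := qC ^ d with hQ
  have hd0 : 1 ≤ d := (Fact.out (p := Irreducible f)).natDegree_pos
  set T₀ := univ.filter (fun T : End F (Fin n → F) => IsNilpotent (aeval T f))
  have hmaps : ∀ T ∈ T₀, socleDim f T ∈ (range (n / d)).image Nat.succ := by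
    intro T hT
    have h1 := socleDim_pos (mem_filter.1 hT).2 (by simp; omega)
    have h2 : d * socleDim f T ≤ n := by simpa using natDegree_mul_socleDim_le (f := f) T
    refine mem_image.2 ⟨socleDim f T - 1, mem_range.2 ?_, by omega⟩
    have := (Nat.le_div_iff_mul_le hd0).2 (le_of_eq_of_le (mul_comm _ _) h2)
    omega
  rw [← sum_fiberwise_of_maps_to hmaps, sum_image (fun a _ b _ h => Nat.succ.inj h)]
  have key : ∀ k ∈ range (n / d), ∑ T ∈ T₀.filter (fun T => socleDim f T = k + 1),
      psi Q (socleDim f T) ^ 2 = fall qC n n * (psi Q (k + 1) ^ 2 / fall Q (k + 1) (k + 1) *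
        if d ∣ n then dist Q (k + 1) (n / d - (k + 1)) else 0) := by
    intro k hk
    have hle : d * (k + 1) ≤ n :=
      (Nat.mul_le_mul_left d (mem_range.1 hk)).trans (Nat.mul_div_le n d)
    have h := sum_ite_socleDim (f := f) hle
    rw [← hd, ← hQ, transform_eq (generic_pow (f := f)) hd0 _ transform_zero, ← sum_filter,
      sum_const, nsmul_eq_mul] at h
    have hf := fall_self_ne_zero (generic_pow (f := f)) (k + 1)
    rw [← hd, ← hQ] at hf
    rw [sum_congr rfl (fun T hT => by rw [(mem_filter.1 hT).2]), sum_const, nsmul_eq_mul]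
    have hiff : d ∣ n - d * (k + 1) ↔ d ∣ n := (Nat.dvd_sub_iff_left hle ⟨_, rfl⟩)
    by_cases hdn : d ∣ n
    · rw [if_pos hdn] at *
      rw [if_pos (hiff.2 hdn), Nat.sub_mul_div] at h
      field_simp
      linear_combination psi Q (k + 1) ^ 2 * h
    · rw [if_neg hdn]
      rw [if_neg (fun h => hdn (hiff.1 h)), mul_zero] at h
      rw [(mul_eq_zero.1 h).resolve_right hf]
      simp
  show ∑ k ∈ range (n / d), ∑ T ∈ T₀.filter (fun T => socleDim f T = k + 1), _ = _
  rw [sum_congr rfl key, ← mul_sum]
  split_ifs with hdn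
  · obtain ⟨m, rfl⟩ := hdn
    have hm : 1 ≤ m := Nat.pos_of_ne_zero (fun h => by simp [h] at hn)
    rw [Nat.mul_div_cancel_left _ hd0, sum_psi_sq_dist (generic_pow (f := f)) hm, pow_mul,
      mul_div_assoc]
  · simp

end Cfsg.Agent.GLCusp
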