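/-
The virtual characters of GL_n: signed fixed points of chains avoiding an embedded field.
-/
import Cfsg.Agent.Lib.GLCuspidal.Distribution
import Cfsg.Agent.Lib.Char.Generalized
import Cfsg.Agent.Lib.Char.PermChar

set_option autoImplicit false
set_option linter.unusedSectionVars false
set_option linter.style.haveILetI false

namespace Cfsg.Agent.GLCusp

open Finset Module Polynomial
open scoped ComplexConjugate MatrixGroups

variable {F : Type*} [Field F] [Finite F] {K : Type*} [Field K] [Finite K] [Algebra F K]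

local notation "qC" => ((Nat.card F : ℕ) : ℂ)

/-- The elements fixed by the `e`-th power of Frobenius. -/
noncomputable def fixedField (F K : Type*) [Field F] [Finite F] [Field K] [Algebra F K] (e : ℕ) :
    Subalgebra F K :=
  letI := Fintype.ofFinite F
  AlgHom.equalizer (FiniteField.frobeniusAlgHom F K ^ e) (AlgHom.id F K)

theorem mem_fixedField {e : ℕ} {x : K} : x ∈ fixedField F K e ↔ x ^ (Nat.card F ^ e) = x := by
  let := Fintype.ofFinite F
  simp only [fixedField, AlgHom.mem_equalizer, AlgHom.coe_pow, FiniteField.coe_frobeniusAlgHom,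
    pow_iterate, AlgHom.id_apply, Nat.card_eq_fintype_card]

/-- The nonzero elements fixed by the `e`-th power of Frobenius. -/
noncomputable def lam (F K : Type*) [Field F] [Field K] (e : ℕ) : Subgroup Kˣ :=
  (powMonoidHom (Nat.card F ^ e - 1) : Kˣ →* Kˣ).ker

theorem mem_lam {e : ℕ} {a : Kˣ} : a ∈ lam F K e ↔ (a : K) ∈ fixedField F K e := by
  rw [lam, MonoidHom.mem_ker, powMonoidHom_apply, mem_fixedField, ← Units.val_pow_eq_pow_val,
    Units.val_inj]
  conv_rhs => rw [← Nat.sub_add_cancel (Nat.one_le_pow e (Nat.card F) Nat.card_pos), pow_succ]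
  exact mul_eq_right.symm

theorem mem_lam_iff_dvd {e : ℕ} {a : Kˣ} :
    a ∈ lam F K e ↔ (minpoly F (a : K)).natDegree ∣ e := by
  rw [mem_lam, mem_fixedField,
    (minpoly.irreducible (IsIntegral.of_finite F (a : K))).natDegree_dvd_iff_dvd_X_pow_card_pow_sub_X,
    minpoly.dvd_iff, map_sub, map_pow, aeval_X, sub_eq_zero]

theorem card_lam {e : ℕ} (he : e ∣ finrank F K) : Nat.card (lam F K e) = Nat.card F ^ e - 1 := by
  haveI : Module.Finite F K := Module.Finite.of_finite
  rw [lam, IsCyclic.card_powMonoidHom_ker, Nat.card_units, Module.natCard_eq_pow_finrank (K := F)]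
  exact Nat.gcd_eq_right (Nat.pow_sub_one_dvd_pow_sub_one _ he)

theorem finrank_fixedField {e : ℕ} (he : e ∣ finrank F K) : finrank F (fixedField F K e) = e := by
  haveI : Module.Finite F K := Module.Finite.of_finite
  haveI : Module.Finite F (fixedField F K e) := Module.Finite.of_finite
  have h1 : 1 ≤ Nat.card F ^ e := Nat.one_le_pow e (Nat.card F) Nat.card_pos
  have key : Nat.card (fixedField F K e) = Nat.card F ^ e := by
    let toK : Option (lam F K e) → fixedField F K e
      | none => 0
      | some a => ⟨(a.1 : K), mem_lam.1 a.2⟩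
    have hb : Function.Bijective toK := by
      constructor
      · rintro (_ | a) (_ | b) h
        · rfl
        · exact absurd (congrArg Subtype.val h).symm b.1.ne_zero
        · exact absurd (congrArg Subtype.val h) a.1.ne_zero
        · exact congrArg some (Subtype.ext (Units.ext (congrArg Subtype.val h :)))
      · intro x
        rcases eq_or_ne (x : K) 0 with h | h
        · exact ⟨none, Subtype.ext h.symm⟩
        · exact ⟨some ⟨Units.mk0 _ h, mem_lam.2 x.2⟩, rfl⟩
    rw [← Nat.card_congr (Equiv.ofBijective toK hb), Finite.card_option, card_lam he]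
    omega
  rw [Module.natCard_eq_pow_finrank (K := F)] at key
  exact Nat.pow_right_injective Finite.one_lt_card key

/-- Multiplication by `a` on the fixed field. -/
noncomputable def mulEnd {e : ℕ} (a : lam F K e) : End F (fixedField F K e) :=
  LinearMap.mulLeft F ⟨(a.1 : K), mem_lam.1 a.2⟩

theorem coe_mulEnd {e : ℕ} (a : lam F K e) (x : fixedField F K e) :
    (mulEnd a x : K) = (a.1 : K) * x := rfl

theorem mulEnd_mul {e : ℕ} (a b : lam F K e) (x : fixedField F K e) :
    mulEnd (a * b) x = mulEnd a (mulEnd b x) := Subtype.ext (by simp [coe_mulEnd, mul_assoc])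

theorem mulEnd_one {e : ℕ} (x : fixedField F K e) : mulEnd 1 x = x :=
  Subtype.ext (by simp [coe_mulEnd])

theorem aeval_mulEnd {e : ℕ} (a : lam F K e) :
    aeval (mulEnd a) (minpoly F (a.1 : K)) = 0 := by
  refine LinearMap.ext fun x => Subtype.ext ?_
  have h := aeval_intertwine (A := mulEnd a) (B := LinearMap.mulLeft F (a.1 : K))
    (fixedField F K e).val.toLinearMap (fun y => rfl) (minpoly F (a.1 : K)) x
  have h2 : aeval (LinearMap.mulLeft F (a.1 : K)) (minpoly F (a.1 : K)) = 0 := by
    rw [show LinearMap.mulLeft F (a.1 : K) = Algebra.lmul F K (a.1 : K) from rfl,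
      aeval_algHom_apply, minpoly.aeval, map_zero]
  rw [h2] at h
  exact h.symm

section Action

variable {n : ℕ}

/-- The natural representation. -/
noncomputable def toEnd : GL (Fin n) F →* End F (Fin n → F) :=
  (Matrix.toLinAlgEquiv' : Matrix (Fin n) (Fin n) F ≃ₐ[F] End F (Fin n → F)).toMonoidHom.comp
    (Units.coeHom _)

theorem toEnd_inv_left (g : GL (Fin n) F) (x : Fin n → F) : toEnd g⁻¹ (toEnd g x) = x := by
  rw [← Module.End.mul_apply, ← map_mul, inv_mul_cancel, map_one]; rfl

theorem toEnd_injective (g : GL (Fin n) F) : Function.Injective (toEnd g) :=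
  Function.LeftInverse.injective (toEnd_inv_left g)

/-- Embeddings of the fixed field with a chain avoiding the image, by parity of the length. -/
def Pairs (K : Type*) [Field K] [Algebra F K] (n e r : ℕ) : Type _ :=
  {x : (fixedField F K e →ₗ[F] (Fin n → F)) × Finset (Submodule F (Fin n → F)) //
    Function.Injective x.1 ∧
      x.2 ∈ chains (fun W => W ≠ ⊥ ∧ Disjoint (LinearMap.range x.1) W) ∧ x.2.card % 2 = r}

instance (e r : ℕ) : Finite (Pairs (F := F) K n e r) := by
  haveI : Finite (fixedField F K e →ₗ[F] (Fin n → F)) :=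
    Finite.of_injective _ DFunLike.coe_injective
  unfold Pairs
  infer_instance

/-- The image of a subspace. -/
noncomputable def actEmb (g : GL (Fin n) F) :
    Submodule F (Fin n → F) ↪ Submodule F (Fin n → F) :=
  ⟨Submodule.map (toEnd g), Submodule.map_injective_of_injective (toEnd_injective g)⟩

/-- The image of an embedding. -/
noncomputable def actMap {e : ℕ} (h : GL (Fin n) F × lam F K e)
    (ε : fixedField F K e →ₗ[F] (Fin n → F)) : fixedField F K e →ₗ[F] (Fin n → F) :=
  (toEnd h.1).comp (ε.comp (mulEnd h.2⁻¹))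

theorem range_actMap {e : ℕ} (h : GL (Fin n) F × lam F K e)
    (ε : fixedField F K e →ₗ[F] (Fin n → F)) :
    LinearMap.range (actMap h ε) = (LinearMap.range ε).map (toEnd h.1) := by
  have : LinearMap.range (mulEnd h.2⁻¹) = ⊤ := LinearMap.range_eq_top.2 fun x =>
    ⟨mulEnd h.2 x, by rw [← mulEnd_mul, inv_mul_cancel, mulEnd_one]⟩
  rw [actMap, LinearMap.range_comp, LinearMap.range_comp, this, Submodule.map_top]

theorem actMap_injective {e : ℕ} (h : GL (Fin n) F × lam F K e)
    {ε : fixedField F K e →ₗ[F] (Fin n → F)} (hε : Function.Injective ε) :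
    Function.Injective (actMap h ε) := by
  have : Function.Injective (mulEnd h.2⁻¹) :=
    Function.LeftInverse.injective (g := mulEnd h.2) fun x => by
      rw [← mulEnd_mul, mul_inv_cancel, mulEnd_one]
  exact (toEnd_injective h.1).comp (hε.comp this)

noncomputable instance (e r : ℕ) : MulAction (GL (Fin n) F × lam F K e) (Pairs (F := F) K n e r) where
  smul h x := ⟨(actMap h x.1.1, x.1.2.map (actEmb h.1)), actMap_injective h x.2.1, by
    have hc := mem_chains.1 x.2.2.1
    rw [mem_chains]
    refine ⟨fun W hW => ?_, fun W hW W' hW' => ?_⟩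
    · obtain ⟨U, hU, rfl⟩ := mem_map.1 hW
      refine ⟨fun h0 => (hc.1 U hU).1 ((actEmb h.1).injective (h0.trans (Submodule.map_bot _).symm)),
        ?_⟩
      rw [range_actMap, disjoint_iff]
      show _ ⊓ Submodule.map _ U = ⊥
      rw [← Submodule.map_inf _ (toEnd_injective h.1), disjoint_iff.1 (hc.1 U hU).2, Submodule.map_bot]
    · obtain ⟨U, hU, rfl⟩ := mem_map.1 hW
      obtain ⟨U', hU', rfl⟩ := mem_map.1 hW'
      exact (hc.2 U hU U' hU').imp (fun hle => Submodule.map_mono hle) (fun hle => Submodule.map_mono hle),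
    by rw [card_map]; exact x.2.2.2⟩
  one_smul x := by
    refine Subtype.ext (Prod.ext ?_ ?_)
    · refine LinearMap.ext fun y => ?_
      show toEnd 1 (x.1.1 (mulEnd (1⁻¹ : lam F K e) y)) = x.1.1 y
      rw [map_one, inv_one, mulEnd_one]
      rfl
    · show x.1.2.map (actEmb 1) = x.1.2
      convert Finset.map_refl
      ext1 W
      show W.map (toEnd 1) = W
      rw [map_one, Module.End.one_eq_id, Submodule.map_id]
  mul_smul a b x := by
    refine Subtype.ext (Prod.ext ?_ ?_)
    · refine LinearMap.ext fun y => ?_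
      show toEnd (a.1 * b.1) (x.1.1 (mulEnd (a.2 * b.2)⁻¹ y)) =
        toEnd a.1 (toEnd b.1 (x.1.1 (mulEnd b.2⁻¹ (mulEnd a.2⁻¹ y))))
      rw [mul_inv_rev, mulEnd_mul, map_mul, Module.End.mul_apply]
    · show x.1.2.map (actEmb (a.1 * b.1)) = (x.1.2.map (actEmb b.1)).map (actEmb a.1)
      rw [map_map]
      congr 1
      ext1 W
      show W.map (toEnd (a.1 * b.1)) = (W.map (toEnd b.1)).map (toEnd a.1)
      rw [map_mul, Module.End.mul_eq_comp, Submodule.map_comp]

variable (K) in
/-- The intertwining embeddings. -/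
def Inter {e : ℕ} (T : End F (Fin n → F)) (a : lam F K e) : Type _ :=
  {ε : fixedField F K e →ₗ[F] (Fin n → F) // Function.Injective ε ∧ ∀ x, T (ε x) = ε (mulEnd a x)}

noncomputable instance {e : ℕ} (T : End F (Fin n → F)) (a : lam F K e) :
    Fintype (Inter K T a) := by
  haveI : Finite (fixedField F K e →ₗ[F] (Fin n → F)) :=
    Finite.of_injective _ DFunLike.coe_injective
  haveI : Finite (Inter K T a) := by unfold Inter; infer_instance
  exact Fintype.ofFinite _

theorem actMap_eq_iff {e : ℕ} (g : GL (Fin n) F) (a : lam F K e)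
    (ε : fixedField F K e →ₗ[F] (Fin n → F)) :
    actMap (g, a) ε = ε ↔ ∀ x, toEnd g (ε x) = ε (mulEnd a x) := by
  rw [LinearMap.ext_iff]
  refine ⟨fun h x => ?_, fun h x => ?_⟩
  · have := h (mulEnd a x)
    simp only [actMap, LinearMap.comp_apply] at this
    rwa [← mulEnd_mul, inv_mul_cancel, mulEnd_one] at this
  · simp only [actMap, LinearMap.comp_apply]
    rw [h, ← mulEnd_mul, mul_inv_cancel, mulEnd_one]

/-- A chain fixed as a set is fixed memberwise. -/
theorem map_eq_self_iff (g : GL (Fin n) F) {c : Finset (Submodule F (Fin n → F))}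
    (hc : ∀ x ∈ c, ∀ y ∈ c, x ≤ y ∨ y ≤ x) :
    c.map (actEmb g) = c ↔ ∀ W ∈ c, ∀ x ∈ W, toEnd g x ∈ W := by
  have hdim : ∀ W : Submodule F (Fin n → F), finrank F (W.map (toEnd g)) = finrank F W := fun W =>
    ((Submodule.equivMapOfInjective _ (toEnd_injective g) W).finrank_eq).symm
  constructor
  · intro h W hW x hx
    have h' : W.map (toEnd g) ∈ c := by
      have := mem_map_of_mem (actEmb g) hW
      rwa [h] at this
    have heq : W.map (toEnd g) = W := by
      rcases hc _ h' W hW with hle | hle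
      · exact Submodule.eq_of_le_of_finrank_eq hle (hdim W)
      · exact (Submodule.eq_of_le_of_finrank_eq hle (hdim W).symm).symm
    exact heq.le ⟨x, hx, rfl⟩
  · intro h
    refine eq_of_subset_of_card_le (fun W' hW' => ?_) (by rw [card_map])
    obtain ⟨W, hW, rfl⟩ := mem_map.1 hW'
    have : W.map (toEnd g) = W := Submodule.eq_of_le_of_finrank_eq
      (by rintro _ ⟨x, hx, rfl⟩; exact h W hW x hx) (hdim W)
    show W.map (toEnd g) ∈ c
    rwa [this]

/-- The fixed points of a given parity. -/
theorem card_fixedBy {e r : ℕ} (g : GL (Fin n) F) (a : lam F K e) :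
    Nat.card (MulAction.fixedBy (Pairs (F := F) K n e r) (g, a)) = ∑ ε : Inter K (toEnd g) a,
      ((chains (Avoid (toEnd g) (LinearMap.range ε.1))).filter (fun c => c.card % 2 = r)).card := by
  classical
  rw [← Finset.card_sigma, ← Nat.card_eq_finsetCard]
  refine Nat.card_congr
    { toFun := fun x => ⟨⟨⟨x.1.1.1, x.1.2.1,
        (actMap_eq_iff g a _).1 (congrArg (fun p => p.1.1) x.2 :)⟩, x.1.1.2⟩, ?_⟩
      invFun := fun s => ⟨⟨(s.1.1.1, s.1.2), s.1.1.2.1, ?_, ?_⟩, ?_⟩
      left_inv := fun _ => rfl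
      right_inv := fun _ => rfl }
  · have hc := mem_chains.1 x.1.2.2.1
    have hinv := (map_eq_self_iff g hc.2).1 (congrArg (fun p => p.1.2) x.2 :)
    exact mem_sigma.2 ⟨mem_univ _, mem_filter.2 ⟨mem_chains.2
      ⟨fun W hW => ⟨(hc.1 W hW).1, hinv W hW, (hc.1 W hW).2⟩, hc.2⟩, x.1.2.2.2⟩⟩
  all_goals
    have hs := s.2
    simp only [mem_sigma, mem_univ, mem_filter, mem_chains, true_and] at hs
  · rw [mem_chains]
    exact ⟨fun W hW => ⟨(hs.1.1 W hW).1, (hs.1.1 W hW).2.2⟩, hs.1.2⟩
  · exact hs.2
  · refine Subtype.ext (Prod.ext ?_ ?_)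
    · exact (actMap_eq_iff g a _).2 s.1.1.2.2
    · exact (map_eq_self_iff g hs.1.2).2 (fun W hW => (hs.1.1 W hW).2.1)

/-- The signed number of fixed points. -/
noncomputable def signed (n e : ℕ) : GL (Fin n) F × lam F K e → ℂ := fun h =>
  (Nat.card (MulAction.fixedBy (Pairs (F := F) K n e 0) h) : ℂ) -
    (Nat.card (MulAction.fixedBy (Pairs (F := F) K n e 1) h) : ℂ)

theorem isGeneralized_signed (e : ℕ) :
    IsGeneralizedCharacter (GL (Fin n) F × lam F K e) (signed n e) :=
  ⟨_, _, Char.isCharacter_fixedBy (Pairs (F := F) K n e 0),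
    Char.isCharacter_fixedBy (Pairs (F := F) K n e 1), rfl⟩

theorem signed_eq {e : ℕ} (g : GL (Fin n) F) (a : lam F K e) :
    signed n e (g, a) =
      ∑ ε : Inter K (toEnd g) a, (chainSum (Avoid (toEnd g) (LinearMap.range ε.1)) : ℂ) := by
  classical
  simp only [signed, card_fixedBy, Nat.cast_sum, ← sum_sub_distrib]
  refine sum_congr rfl fun ε _ => ?_
  set C := chains (Avoid (toEnd g) (LinearMap.range ε.1))
  have h0 : ∑ c ∈ C.filter (fun c => c.card % 2 = 0), (-1 : ℂ) ^ c.card =
      ((C.filter (fun c => c.card % 2 = 0)).card : ℂ) := by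
    rw [sum_congr rfl (fun c hc => Even.neg_one_pow (Nat.even_iff.2 (mem_filter.1 hc).2)), sum_const,
      nsmul_eq_mul, mul_one]
  have h1 : ∑ c ∈ C.filter (fun c => ¬ c.card % 2 = 0), (-1 : ℂ) ^ c.card =
      -((C.filter (fun c => c.card % 2 = 1)).card : ℂ) := by
    rw [filter_congr (q := fun c => c.card % 2 = 1)
        (fun c _ => show ¬ c.card % 2 = 0 ↔ c.card % 2 = 1 by omega),
      sum_congr rfl (fun c hc => Odd.neg_one_pow (Nat.odd_iff.2 (mem_filter.1 hc).2)), sum_const,
      nsmul_eq_mul, mul_neg, mul_one]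
  show _ = ((∑ c ∈ C, (-1 : ℤ) ^ c.card : ℤ) : ℂ)
  push_cast
  rw [← sum_filter_add_sum_filter_not C (fun c => c.card % 2 = 0), h0, h1]
  ring

/-- The weight of a primary component. -/
noncomputable def primWeight (f : F[X]) (T : End F (Fin n → F)) : ℂ :=
  open Classical in
  if IsNilpotent (aeval T f) then psi (qC ^ f.natDegree) (socleDim f T) else 0

end Action

end Cfsg.Agent.GLCusp
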