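/-
The virtual characters are generalized characters, and their values.
-/
import Cfsg.Agent.Lib.GLCuspidal.Virtual

set_option autoImplicit false
set_option linter.unusedSectionVars false
set_option linter.style.haveILetI false

namespace Cfsg.Agent.GLCusp

open Finset Module Polynomial
open scoped ComplexConjugate MatrixGroups

variable {F : Type*} [Field F] [Finite F] {K : Type*} [Field K] [Finite K] [Algebra F K]
variable {n : ℕ}

local notation "qC" => ((Nat.card F : ℕ) : ℂ)

/-- The contribution of the fixed field of order `q^e`. -/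
noncomputable def part [Fintype Kˣ] (χ : Kˣ →* ℂ) (e : ℕ) (g : GL (Fin n) F) : ℂ :=
  open Classical in
  (qC ^ e - 1)⁻¹ * ∑ a : lam F K e, χ a.1 * signed n e (g, a)

/-- The virtual character attached to `χ`. -/
noncomputable def cusp [Fintype Kˣ] (χ : Kˣ →* ℂ) (g : GL (Fin n) F) : ℂ :=
  (-1) ^ (n - 1) * ∑ a : Kˣ, χ a * primWeight (minpoly F (a : K)) (toEnd g)

theorem signed_value {e : ℕ} (he : e ∣ finrank F K) (g : GL (Fin n) F) (a : lam F K e) :
    signed n e (g, a) = open Classical in
      if IsNilpotent (aeval (toEnd g) (minpoly F (a.1 : K))) then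
        ∑ i ∈ range (n + 1), alt (qC ^ (minpoly F (a.1 : K)).natDegree) i *
          fall (qC ^ (minpoly F (a.1 : K)).natDegree) (e / (minpoly F (a.1 : K)).natDegree + i)
            (socleDim (minpoly F (a.1 : K)) (toEnd g))
      else 0 := by
  classical
  set f := minpoly F (a.1 : K) with hf
  haveI : Fact (Irreducible f) := ⟨minpoly.irreducible (IsIntegral.of_finite F (a.1 : K))⟩
  haveI : Finite (fixedField F K e) := inferInstance
  haveI : Module.Finite (AdjoinRoot f) (KSp (mulEnd a) (aeval_mulEnd a)) := Module.Finite.of_finite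
  haveI : Module.Finite F (KSp (mulEnd a) (aeval_mulEnd a)) := Module.Finite.of_finite
  let b := Module.finBasis (AdjoinRoot f) (KSp (mulEnd a) (aeval_mulEnd a))
  have hj : finrank (AdjoinRoot f) (KSp (mulEnd a) (aeval_mulEnd a)) = e / f.natDegree := by
    have h : finrank F (AdjoinRoot f) * finrank (AdjoinRoot f) (KSp (mulEnd a) (aeval_mulEnd a)) =
        finrank F (KSp (mulEnd a) (aeval_mulEnd a)) := Module.finrank_mul_finrank _ _ _
    rw [finrank_adjoinRoot, show finrank F (KSp (mulEnd a) (aeval_mulEnd a)) = e from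
      finrank_fixedField he] at h
    conv_rhs => rw [← h]
    exact (Nat.mul_div_cancel_left _ (Fact.out (p := Irreducible f)).natDegree_pos).symm
  let E : EqMaps f (KSp (mulEnd a) (aeval_mulEnd a)) (toEnd g) ≃ Inter K (toEnd g) a :=
    Equiv.subtypeEquiv (Equiv.refl _) (fun ε => and_congr_right fun _ => forall_congr' fun x => by
      rw [root_smul]; rfl)
  haveI := Fintype.ofEquiv _ E.symm
  rw [signed_eq, ← E.sum_comp]
  split_ifs with hT
  · rw [← hj]
    exact sum_chainSum_avoid hT b (N := n) (by simp)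
  · refine sum_eq_zero fun ε _ => ?_
    have : chainSum (Avoid (toEnd g) (LinearMap.range (E ε).1)) = 0 :=
      chainSum_avoid_of_not_nilpotent hT (range_le_socle (f := f) ε)
    rw [this, Int.cast_zero]

theorem sum_signed (hdeg : ∀ e ∈ Icc 1 n, e ∣ finrank F K) (hn : 1 ≤ n) (g : GL (Fin n) F)
    (a : Kˣ) [∀ e, Decidable (a ∈ lam F K e)] :
    ∑ e ∈ Icc 1 n, (if h : a ∈ lam F K e then (qC ^ e - 1)⁻¹ * signed n e (g, ⟨a, h⟩) else 0) =
      primWeight (minpoly F (a : K)) (toEnd g) := by
  classical
  set f := minpoly F (a : K) with hf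
  haveI : Fact (Irreducible f) := ⟨minpoly.irreducible (IsIntegral.of_finite F (a : K))⟩
  set Q := qC ^ f.natDegree with hQ
  have hd : 1 ≤ f.natDegree := (Fact.out (p := Irreducible f)).natDegree_pos
  have e1 : ∀ e ∈ Icc 1 n,
      (if h : a ∈ lam F K e then (qC ^ e - 1)⁻¹ * signed n e (g, ⟨a, h⟩) else 0) =
      if IsNilpotent (aeval (toEnd g) f) then
        (if f.natDegree ∣ e then (qC ^ e - 1)⁻¹ * ∑ i ∈ range (n + 1),
          alt Q i * fall Q (e / f.natDegree + i) (socleDim f (toEnd g)) else 0) else 0 := by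
    intro e he
    by_cases hm : a ∈ lam F K e
    · rw [dif_pos hm, signed_value (hdeg e he), if_pos (mem_lam_iff_dvd.1 hm)]
      split_ifs
      · rfl
      · rw [mul_zero]
    · rw [dif_neg hm, if_neg (fun h => hm (mem_lam_iff_dvd.2 h))]
      simp
  rw [sum_congr rfl e1, primWeight]
  by_cases hT : IsNilpotent (aeval (toEnd g) f)
  · simp only [if_pos hT]
    have hk1 : 1 ≤ socleDim f (toEnd g) := socleDim_pos hT (by simp; omega)
    have hkn : f.natDegree * socleDim f (toEnd g) ≤ n := by
      simpa using natDegree_mul_socleDim_le (f := f) (toEnd g)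
    rw [← sum_fall_value (generic_pow (f := f)) hk1
        ((Nat.le_mul_of_pos_left _ hd).trans hkn), ← sum_filter]
    have hsub : (Icc 1 n).filter (f.natDegree * · ≤ n) ⊆ Icc 1 n := filter_subset _ _
    rw [← sum_subset hsub]
    · refine sum_nbij' (fun e => e / f.natDegree) (fun j => f.natDegree * j) ?_ ?_ ?_ ?_ ?_
      · intro e he
        simp only [mem_filter, mem_Icc] at he ⊢
        obtain ⟨⟨h1, h2⟩, j, rfl⟩ := he
        rw [Nat.mul_div_cancel_left _ hd]
        have : 1 ≤ j := Nat.pos_of_ne_zero (fun h => by simp [h] at h1)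
        exact ⟨⟨this, (Nat.le_mul_of_pos_left j hd).trans h2⟩, h2⟩
      · intro j hj
        simp only [mem_filter, mem_Icc] at hj ⊢
        exact ⟨⟨le_trans hj.1.1 (Nat.le_mul_of_pos_left j hd), hj.2⟩, dvd_mul_right _ _⟩
      · intro e he
        exact Nat.mul_div_cancel' (mem_filter.1 he).2
      · intro j _
        exact Nat.mul_div_cancel_left _ hd
      · intro e he
        rw [hQ, ← pow_mul, Nat.mul_div_cancel' (mem_filter.1 he).2]
    · intro j hj hj'
      have : n < f.natDegree * j := by
        by_contra h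
        exact hj' (mem_filter.2 ⟨hj, by omega⟩)
      have hlt : socleDim f (toEnd g) < j := by
        by_contra h
        have := Nat.mul_le_mul_left f.natDegree (not_lt.1 h)
        omega
      rw [sum_eq_zero (fun i _ => by rw [fall_of_lt (by omega), mul_zero]), mul_zero]
  · simp [hT]

theorem cusp_eq_sum [Fintype Kˣ] (hdeg : ∀ e ∈ Icc 1 n, e ∣ finrank F K) (hn : 1 ≤ n) (χ : Kˣ →* ℂ) :
    (cusp χ : GL (Fin n) F → ℂ) = ((((-1) ^ (n - 1) : ℤ)) : ℂ) • ∑ e ∈ Icc 1 n, part χ e := by
  classical
  funext g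
  simp only [cusp, Pi.smul_apply, Finset.sum_apply, smul_eq_mul, part]
  push_cast
  congr 1
  simp only [← sum_signed hdeg hn g, mul_sum]
  rw [sum_comm]
  refine sum_congr rfl fun e _ => ?_
  rw [← sum_filter_of_ne (s := univ) (p := (· ∈ lam F K e)) (fun a _ h => by
      by_contra hm
      exact h (by rw [dif_neg hm, mul_zero])),
    sum_subtype (p := (· ∈ lam F K e)) _ (fun x => by simp)]
  refine sum_congr rfl fun a _ => ?_
  rw [dif_pos a.2]
  ring

theorem isGeneralized_part [Fintype Kˣ] [Fintype (GL (Fin n) F)] (χ : Kˣ →* ℂ) {e : ℕ}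
    (he : e ∣ finrank F K) : IsGeneralizedCharacter (GL (Fin n) F) (part χ e) := by
  classical
  have hq : (Nat.card (lam F K e) : ℂ) = qC ^ e - 1 := by
    rw [card_lam he, Nat.cast_sub (Nat.one_le_pow _ _ Nat.card_pos)]
    push_cast; rfl
  rw [Char.isGeneralizedCharacter_iff]
  refine ⟨fun g h => ?_, fun ψ => ?_⟩
  · simp only [part]
    congr 1
    refine sum_congr rfl fun a _ => ?_
    congr 1
    have := Char.IsGeneralizedCharacter.isClassFunction (isGeneralized_signed (n := n) e)
      ((g, a) : GL (Fin n) F × lam F K e) (h, 1)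
    simpa using this
  · let η : lam F K e →* ℂ := (starRingEnd ℂ).toMonoidHom.comp (χ.comp (lam F K e).subtype)
    have hθ : IsGeneralizedCharacter (GL (Fin n) F × lam F K e)
        (fun h => ψ.1 h.1 * η h.2) :=
      Char.IsCharacter.isGeneralized (Char.IsCharacter.mul
        (Char.IsCharacter.comp (Char.irr_isCharacter ψ) (MonoidHom.fst (GL (Fin n) F) (lam F K e)))
        (Char.IsCharacter.comp (Char.IsIrrCharacter.isCharacter (Char.isIrrCharacter_of_monoidHom η))
          (MonoidHom.snd (GL (Fin n) F) (lam F K e))))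
    obtain ⟨z, hz⟩ := Char.IsGeneralizedCharacter.exists_int_classInner
      (isGeneralized_signed (n := n) e) hθ
    refine ⟨z, ?_⟩
    rw [← hz, classInner, classInner, Nat.card_prod, Nat.cast_mul, mul_inv, hq, mul_assoc,
      Fintype.sum_prod_type, mul_sum]
    congr 1
    rw [mul_sum]
    simp only [part]
    congr 1
    simp only [mul_assoc, sum_mul, mul_sum]
    refine sum_congr rfl fun g _ => sum_congr rfl fun a _ => ?_
    simp only [η, MonoidHom.coe_comp, Function.comp_apply, RingHom.toMonoidHom_eq_coe,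
      MonoidHom.coe_coe, Subgroup.coe_subtype, map_mul, starRingEnd_self_apply]
    ring

theorem isGeneralized_cusp [Fintype Kˣ] [Fintype (GL (Fin n) F)]
    (hdeg : ∀ e ∈ Icc 1 n, e ∣ finrank F K) (hn : 1 ≤ n) (χ : Kˣ →* ℂ) :
    IsGeneralizedCharacter (GL (Fin n) F) (cusp χ) := by
  rw [cusp_eq_sum hdeg hn]
  exact Char.IsGeneralizedCharacter.intCast_smul (Char.IsGeneralizedCharacter.sum _ fun e he =>
    isGeneralized_part χ (hdeg e he)) _

end Cfsg.Agent.GLCusp
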