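/-
Inner products of the virtual characters of GL_n.
-/
import Cfsg.Agent.Lib.GLCuspidal.Value

set_option autoImplicit false
set_option linter.unusedSectionVars false
set_option linter.style.haveILetI false

namespace Cfsg.Agent.GLCusp

open Finset Module Polynomial
open scoped ComplexConjugate MatrixGroups

variable {F : Type*} [Field F] [Finite F] {K : Type*} [Field K] [Finite K] [Algebra F K]
variable {n : ℕ}

local notation "qC" => ((Nat.card F : ℕ) : ℂ)

theorem conj_psi (m k : ℕ) : conj (psi (qC ^ m) k) = psi (qC ^ m) k := by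
  simp [psi, map_prod]

theorem conj_primWeight (f : F[X]) (T : End F (Fin n → F)) :
    conj (primWeight f T) = primWeight f T := by
  unfold primWeight
  split_ifs
  · exact conj_psi _ _
  · exact map_zero _

/-- Two irreducible polynomials nilpotent at the same operator coincide. -/
theorem eq_of_nilpotent {V : Type*} [AddCommGroup V] [Module F V] [Nontrivial V] {T : End F V}
    {f g : F[X]} (hf : Irreducible f) (hg : Irreducible g) (hfm : f.Monic) (hgm : g.Monic)
    (h1 : IsNilpotent (aeval T f)) (h2 : IsNilpotent (aeval T g)) : f = g := by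
  by_contra hne
  have hco : IsCoprime f g := (hf.coprime_iff_not_dvd).2 fun h =>
    hne (eq_of_monic_of_associated hfm hgm (hf.associated_of_dvd hg h))
  obtain ⟨a, ha⟩ := h1
  obtain ⟨b, hb⟩ := h2
  obtain ⟨u, v, huv⟩ := (hco.pow (m := a) (n := b))
  have h := congrArg (aeval T) huv
  rw [map_add, map_mul, map_mul, map_pow, map_pow, ha, hb, mul_zero, mul_zero, add_zero, map_one] at h
  exact zero_ne_one h

theorem primWeight_mul (hn : 1 ≤ n) (a b : Kˣ) (T : End F (Fin n → F))
    [Decidable (minpoly F (b : K) = minpoly F (a : K))] :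
    primWeight (minpoly F (a : K)) T * primWeight (minpoly F (b : K)) T =
      if minpoly F (b : K) = minpoly F (a : K) then primWeight (minpoly F (a : K)) T ^ 2 else 0 := by
  haveI : Nonempty (Fin n) := ⟨⟨0, hn⟩⟩
  split_ifs with h
  · rw [h, sq]
  · unfold primWeight
    split_ifs with h1 h2
    · exact absurd (eq_of_nilpotent (minpoly.irreducible (IsIntegral.of_finite F _))
        (minpoly.irreducible (IsIntegral.of_finite F _)) (minpoly.monic (IsIntegral.of_finite F _))
        (minpoly.monic (IsIntegral.of_finite F _)) h1 h2).symm h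
    all_goals simp

theorem isUnit_of_nilpotent {a : Kˣ} {T : End F (Fin n → F)}
    (hT : IsNilpotent (aeval T (minpoly F (a : K)))) : IsUnit T := by
  set f := minpoly F (a : K)
  have hirr : Irreducible f := minpoly.irreducible (IsIntegral.of_finite F _)
  have hne : f ≠ X := by
    intro h
    have := minpoly.aeval F (a : K)
    rw [show minpoly F (a : K) = X from h, aeval_X] at this
    exact a.ne_zero this
  obtain ⟨m, hm⟩ := hT
  have hco : IsCoprime (f ^ m) X := IsCoprime.pow_left ((hirr.coprime_iff_not_dvd).2 fun h =>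
    hne (eq_of_monic_of_associated (minpoly.monic (IsIntegral.of_finite F _)) monic_X
      (hirr.associated_of_dvd irreducible_X h)))
  obtain ⟨u, v, huv⟩ := hco
  have h := congrArg (aeval T) huv
  rw [map_add, map_mul, map_mul, map_pow, hm, mul_zero, zero_add, map_one, aeval_X] at h
  exact IsUnit.of_mul_eq_one_right _ h

theorem card_GL (n : ℕ) [Finite (GL (Fin n) F)] :
    (Nat.card (GL (Fin n) F) : ℂ) = fall qC n n := by
  let := Fintype.ofFinite F
  rw [Matrix.card_GL_field, fall, ← Fin.prod_univ_eq_prod_range (fun i => qC ^ n - qC ^ i),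
    Nat.cast_prod]
  refine prod_congr rfl fun i _ => ?_
  rw [Nat.cast_sub (Nat.pow_le_pow_right Fintype.card_pos i.2.le), Nat.cast_pow, Nat.cast_pow,
    Nat.card_eq_fintype_card]

theorem sum_primWeight_sq [Fintype (GL (Fin n) F)] (hn : 1 ≤ n) (a : Kˣ) :
    ∑ g : GL (Fin n) F, primWeight (minpoly F (a : K)) (toEnd g) ^ 2 =
      if (minpoly F (a : K)).natDegree ∣ n then
        fall qC n n * ((n / (minpoly F (a : K)).natDegree : ℕ) : ℂ) / (qC ^ n - 1) else 0 := by
  classical
  set f := minpoly F (a : K) with hf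
  haveI : Fact (Irreducible f) := ⟨minpoly.irreducible (IsIntegral.of_finite F _)⟩
  haveI : Finite (End F (Fin n → F)) := Finite.of_injective _ DFunLike.coe_injective
  haveI := Fintype.ofFinite (End F (Fin n → F))
  rw [← sum_psi_sq (f := f) hn]
  have hw : ∀ T : End F (Fin n → F), primWeight f T ^ 2 =
      if IsNilpotent (aeval T f) then psi (qC ^ f.natDegree) (socleDim f T) ^ 2 else 0 := fun T => by
    unfold primWeight
    split_ifs <;> simp
  rw [sum_filter]
  simp only [hw]
  let Φ := (Matrix.toLinAlgEquiv' : Matrix (Fin n) (Fin n) F ≃ₐ[F] End F (Fin n → F))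
  have hinj : Function.Injective (toEnd : GL (Fin n) F → End F (Fin n → F)) := fun g h e =>
    Units.ext (Φ.injective e)
  rw [← sum_subset (subset_univ (univ.image (toEnd : GL (Fin n) F → End F (Fin n → F)))),
    sum_image (fun x _ y _ e => hinj e)]
  intro T _ hT
  rw [if_neg]
  intro hnil
  obtain ⟨u, hu⟩ := (isUnit_of_nilpotent hnil).map Φ.symm
  exact hT (mem_image.2 ⟨u, mem_univ _, by
    show Φ (u : Matrix (Fin n) (Fin n) F) = T
    rw [hu, AlgEquiv.apply_symm_apply]⟩)

theorem pow_pow_eq_self_iff (a : Kˣ) (m : ℕ) :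
    a ^ (Nat.card F ^ m) = a ↔ (minpoly F (a : K)).natDegree ∣ m := by
  rw [← mem_lam_iff_dvd, mem_lam, mem_fixedField, ← Units.val_pow_eq_pow_val, Units.val_inj]

theorem minpoly_eq_iff (a b : Kˣ) : minpoly F (b : K) = minpoly F (a : K) ↔
    ∃ i < (minpoly F (a : K)).natDegree, b = a ^ (Nat.card F ^ i) := by
  let := Fintype.ofFinite F
  have hd : 0 < (minpoly F (a : K)).natDegree :=
    (minpoly.irreducible (IsIntegral.of_finite F (a : K))).natDegree_pos
  set d := (minpoly F (a : K)).natDegree with hd'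
  constructor
  · intro h
    obtain ⟨σ, hσ⟩ := minpoly.exists_algEquiv_of_root' (K := F) (L := K)
      (y := (a : K)) (x := (b : K)) (IsIntegral.of_finite F _).isAlgebraic
      (by rw [← h]; exact minpoly.aeval F _)
    obtain ⟨⟨i, hlt⟩, hi⟩ := (FiniteField.bijective_frobeniusAlgEquivOfAlgebraic_pow F K).2 σ
    refine ⟨i % d, Nat.mod_lt _ hd, ?_⟩
    have hb : b = a ^ (Nat.card F ^ i) := Units.ext (by
      rw [← hσ, ← hi, AlgEquiv.coe_pow, Units.val_pow_eq_pow_val]
      simp [FiniteField.coe_frobeniusAlgEquivOfAlgebraic, pow_iterate])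
    rw [hb]
    conv_lhs => rw [← Nat.div_add_mod i d, pow_add, pow_mul,
      (pow_pow_eq_self_iff (F := F) a (d * (i / d))).2 (dvd_mul_right _ _)]
  · rintro ⟨i, -, rfl⟩
    have h := minpoly.algHom_eq (FiniteField.frobeniusAlgHom F K ^ i)
      (FiniteField.frobeniusAlgHom F K ^ i).toRingHom.injective (a : K)
    simpa [AlgHom.coe_pow, FiniteField.coe_frobeniusAlgHom, pow_iterate] using h

theorem sum_range_periodic {R : Type*} [CommSemiring R] {h : ℕ → R} {d : ℕ} (hper : ∀ i, h (i + d) = h i)
    (m : ℕ) : ∑ i ∈ range (d * m), h i = (m : R) * ∑ i ∈ range d, h i := by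
  induction m with
  | zero => simp
  | succ m ih =>
    have hper' : ∀ i, h (d + i) = h i := fun i => by rw [add_comm, hper]
    rw [Nat.mul_succ, add_comm (d * m) d, sum_range_add]
    simp only [hper']
    rw [ih]
    push_cast
    ring

theorem sum_conjugates [Fintype Kˣ] [DecidableEq F] {a : Kˣ} (ha : a ∈ lam F K n) (h : Kˣ → ℂ)
    [DecidablePred fun b : Kˣ => minpoly F (b : K) = minpoly F (a : K)] :
    ((n / (minpoly F (a : K)).natDegree : ℕ) : ℂ) *
      ∑ b ∈ univ.filter (fun b : Kˣ => minpoly F (b : K) = minpoly F (a : K)), h b =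
      ∑ i ∈ range n, h (a ^ (Nat.card F ^ i)) := by
  classical
  have hd : 0 < (minpoly F (a : K)).natDegree :=
    (minpoly.irreducible (IsIntegral.of_finite F (a : K))).natDegree_pos
  obtain ⟨m, hm⟩ := mem_lam_iff_dvd.1 ha
  set d := (minpoly F (a : K)).natDegree with hd'
  rw [hm, Nat.mul_div_cancel_left _ hd, sum_range_periodic (d := d) (fun i => by
    rw [show Nat.card F ^ (i + d) = Nat.card F ^ d * Nat.card F ^ i by ring, pow_mul,
      (pow_pow_eq_self_iff (F := F) a d).2 dvd_rfl])]
  congr 1
  rw [← sum_image (g := fun i => a ^ (Nat.card F ^ i))]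
  · refine sum_congr ?_ fun _ _ => rfl
    ext b
    simp only [mem_filter, mem_univ, true_and, mem_image, mem_range, minpoly_eq_iff]
    exact ⟨fun ⟨i, hi, e⟩ => ⟨i, hi, e.symm⟩, fun ⟨i, hi, e⟩ => ⟨i, hi, e.symm⟩⟩
  · have key : ∀ i j, i ≤ j → j < d → a ^ (Nat.card F ^ i) = a ^ (Nat.card F ^ j) → i = j := by
      intro i j hij hj e
      let := Fintype.ofFinite F
      have e' : ((a : K) ^ (Nat.card F ^ (j - i))) ^ (Nat.card F ^ i) = (a : K) ^ (Nat.card F ^ i) := by
        rw [← pow_mul, ← pow_add, Nat.sub_add_cancel hij, ← Units.val_pow_eq_pow_val,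
          ← Units.val_pow_eq_pow_val, e]
      have hinjF : Function.Injective fun x : K => x ^ (Nat.card F ^ i) := by
        have := (FiniteField.frobeniusAlgHom F K ^ i).toRingHom.injective
        simpa [AlgHom.coe_pow, FiniteField.coe_frobeniusAlgHom, pow_iterate] using this
      have h2 : a ^ (Nat.card F ^ (j - i)) = a :=
        Units.ext (by rw [Units.val_pow_eq_pow_val]; exact hinjF e')
      have h3 := Nat.eq_zero_of_dvd_of_lt ((pow_pow_eq_self_iff a _).1 h2) (by omega)
      omega
    intro i hi j hj e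
    simp only [coe_range, Set.mem_Iio] at hi hj
    rcases le_total i j with hij | hij
    · exact key i j hij hj e
    · exact (key j i hij hi e.symm).symm

/-- Inner products of the virtual characters. -/
theorem classInner_cusp [Fintype Kˣ] [Fintype (GL (Fin n) F)] (hn : 1 ≤ n) (χ χ' : Kˣ →* ℂ)
    [Fintype (lam F K n)] :
    classInner (cusp χ : GL (Fin n) F → ℂ) (cusp χ') = (qC ^ n - 1)⁻¹ *
      ∑ i ∈ range n, ∑ a : lam F K n, χ a.1 * conj (χ' (a.1 ^ (Nat.card F ^ i))) := by
  classical
  have hf := fall_self_ne_zero (generic_card (Kf := F)) n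
  have e1 : ∑ g : GL (Fin n) F, cusp χ g * conj (cusp χ' g) = ∑ a : Kˣ, ∑ b : Kˣ,
      χ a * conj (χ' b) * if minpoly F (b : K) = minpoly F (a : K) then
        (if (minpoly F (a : K)).natDegree ∣ n then
          fall qC n n * ((n / (minpoly F (a : K)).natDegree : ℕ) : ℂ) / (qC ^ n - 1) else 0)
        else 0 := by
    have e2 : ∀ g : GL (Fin n) F, cusp χ g * conj (cusp χ' g) = ∑ a : Kˣ, ∑ b : Kˣ,
        χ a * conj (χ' b) * if minpoly F (b : K) = minpoly F (a : K) then
          primWeight (minpoly F (a : K)) (toEnd g) ^ 2 else 0 := by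
      intro g
      simp only [cusp, map_mul, map_sum, map_pow, map_neg, map_one, conj_primWeight]
      rw [mul_mul_mul_comm, ← mul_pow, neg_mul_neg, one_mul, one_pow, one_mul, sum_mul_sum]
      refine sum_congr rfl fun a _ => sum_congr rfl fun b _ => ?_
      rw [← primWeight_mul hn]
      ring
    simp only [e2]
    rw [sum_comm]
    refine sum_congr rfl fun a _ => ?_
    rw [sum_comm]
    refine sum_congr rfl fun b _ => ?_
    rw [← mul_sum]
    congr 1
    split_ifs with h1 h2
    · rw [sum_primWeight_sq hn, if_pos h2]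
    · rw [sum_primWeight_sq hn, if_neg h2]
    · exact sum_const_zero
  rw [classInner, e1, card_GL, mul_sum, sum_comm (s := range n)]
  rw [← sum_filter_of_ne (s := univ) (p := (· ∈ lam F K n)) (fun a _ h => by
      by_contra hm
      refine h (mul_eq_zero_of_right _ (sum_eq_zero fun b _ => ?_))
      rw [if_neg (fun hd => hm (mem_lam_iff_dvd.2 hd)), ite_self, mul_zero]),
    sum_subtype (p := (· ∈ lam F K n)) _ (fun x => by simp), mul_sum]
  refine sum_congr rfl fun a _ => ?_
  rw [← sum_conjugates a.2 (fun b => χ a.1 * conj (χ' b)), if_pos (mem_lam_iff_dvd.1 a.2)]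
  simp only [mul_ite, mul_zero]
  rw [← sum_filter, mul_sum, mul_sum, mul_sum]
  refine sum_congr rfl fun b _ => ?_
  field_simp

end Cfsg.Agent.GLCusp
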