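/-
Values at unipotent elements: the degree and the vanishing of the sums over unipotent radicals.
-/
import Cfsg.Agent.Lib.GLCuspidal.Norm

set_option autoImplicit false
set_option linter.unusedSectionVars false
set_option linter.style.haveILetI false

namespace Cfsg.Agent.GLCusp

open Finset Module Polynomial
open scoped ComplexConjugate MatrixGroups

variable {F : Type*} [Field F] [Finite F] {K : Type*} [Field K] [Finite K] [Algebra F K]

local notation "qC" => ((Nat.card F : ℕ) : ℂ)

theorem cusp_of_unipotent {n : ℕ} [Fintype Kˣ] (hn : 1 ≤ n) (χ : Kˣ →* ℂ) (g : GL (Fin n) F)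
    (hg : IsNilpotent (toEnd g - 1)) :
    cusp χ g = (-1) ^ (n - 1) * psi qC (finrank F (LinearMap.ker (toEnd g - 1))) := by
  classical
  haveI : Nonempty (Fin n) := ⟨⟨0, hn⟩⟩
  have h1 : minpoly F ((1 : Kˣ) : K) = X - C 1 := by rw [Units.val_one, minpoly.one, map_one]
  have haev : aeval (toEnd g) (X - C 1 : F[X]) = toEnd g - 1 := by simp
  unfold cusp
  congr 1
  rw [sum_eq_single (1 : Kˣ) (fun a _ ha => ?_) (fun h => absurd (mem_univ _) h), map_one, one_mul, h1,
    primWeight, haev, if_pos hg, natDegree_X_sub_C, pow_one, socleDim, natDegree_X_sub_C, Nat.div_one,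
    socle, haev]
  unfold primWeight
  rw [if_neg, mul_zero]
  intro hnil
  apply ha
  have he := eq_of_nilpotent (minpoly.irreducible (IsIntegral.of_finite F (a : K))) (irreducible_X_sub_C 1)
    (minpoly.monic (IsIntegral.of_finite F _)) (monic_X_sub_C 1) hnil (by rw [haev]; exact hg)
  have := minpoly.aeval F (a : K)
  rw [he] at this
  exact Units.ext (sub_eq_zero.1 (by simpa using this))

theorem cusp_one {n : ℕ} [Fintype Kˣ] (hn : 1 ≤ n) (χ : Kˣ →* ℂ) :
    cusp χ (1 : GL (Fin n) F) = ∏ i ∈ Ico 1 n, (qC ^ i - 1) := by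
  rw [cusp_of_unipotent hn χ 1 (by rw [map_one, sub_self]; exact IsNilpotent.zero), map_one, sub_self,
    LinearMap.ker_zero, finrank_top, Module.finrank_fin_fun, prod_Ico_eq_prod_range, psi]
  have : ((-1 : ℂ)) ^ (n - 1) = ∏ _j ∈ range (n - 1), (-1 : ℂ) := by simp
  rw [this, ← prod_mul_distrib]
  exact prod_congr rfl fun j _ => by rw [add_comm 1 j]; ring

variable {m s : ℕ}

/-- An upper right block, given by its columns. -/
def blockMat (Y : Fin s → Fin m → F) : Matrix (Fin (m + s)) (Fin (m + s)) F :=
  Matrix.of fun i j => Fin.addCases (motive := fun _ => F)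
    (fun i' => Fin.addCases (motive := fun _ => F) (fun _ => 0) (fun j' => Y j' i') j) (fun _ => 0) i

theorem blockMat_mul (Y Y' : Fin s → Fin m → F) : blockMat Y * blockMat Y' = 0 := by
  ext i j
  rw [Matrix.mul_apply, Fin.sum_univ_add]
  induction i using Fin.addCases <;> simp [blockMat]

/-- A member of the unipotent radical. -/
def unip (Y : Fin s → Fin m → F) : GL (Fin (m + s)) F where
  val := 1 + blockMat Y
  inv := 1 - blockMat Y
  val_inv := by simp [mul_sub, add_mul, blockMat_mul]
  inv_val := by simp [mul_add, sub_mul, blockMat_mul]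

/-- The extension of a vector by zero. -/
def padZero (F : Type*) [Field F] (m s : ℕ) : (Fin m → F) →ₗ[F] (Fin (m + s) → F) where
  toFun v i := Fin.addCases (motive := fun _ => F) v (fun _ => 0) i
  map_add' v w := by ext i; induction i using Fin.addCases <;> simp
  map_smul' c v := by ext i; induction i using Fin.addCases <;> simp

theorem padZero_injective : Function.Injective (padZero F m s) := fun v w h => funext fun i => by
  simpa [padZero] using congrFun h (Fin.castAdd s i)

theorem toEnd_unip_sub_one (Y : Fin s → Fin m → F) :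
    toEnd (unip Y) - 1 = Matrix.toLinAlgEquiv' (blockMat Y) := by
  show Matrix.toLinAlgEquiv' (1 + blockMat Y) - 1 = _
  rw [map_add, map_one, add_sub_cancel_left]

theorem finrank_ker_unip (Y : Fin s → Fin m → F) :
    finrank F (LinearMap.ker (toEnd (unip Y) - 1)) =
      m + s - finrank F (Submodule.span F (Set.range Y)) := by
  have hr : LinearMap.range (toEnd (unip Y) - 1) =
      (Submodule.span F (Set.range Y)).map (padZero F m s) := by
    rw [toEnd_unip_sub_one]
    show LinearMap.range (Matrix.toLin' (blockMat Y)) = _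
    rw [Matrix.range_toLin', Submodule.map_span]
    refine le_antisymm (Submodule.span_le.2 ?_) (Submodule.span_le.2 ?_)
    · rintro _ ⟨j, rfl⟩
      induction j using Fin.addCases with
      | left j =>
        have : (blockMat Y).col (Fin.castAdd s j) = 0 := by
          ext i; induction i using Fin.addCases <;> simp [blockMat]
        rw [this]; exact Submodule.zero_mem _
      | right j =>
        refine Submodule.subset_span ⟨Y j, ⟨j, rfl⟩, ?_⟩
        ext i; induction i using Fin.addCases <;> simp [blockMat, padZero]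
    · rintro _ ⟨_, ⟨j, rfl⟩, rfl⟩
      refine Submodule.subset_span ⟨Fin.natAdd m j, ?_⟩
      ext i; induction i using Fin.addCases <;> simp [blockMat, padZero]
  have h := LinearMap.finrank_range_add_finrank_ker (toEnd (unip Y) - 1)
  rw [hr, ← (Submodule.equivMapOfInjective _ padZero_injective _).finrank_eq,
    Module.finrank_fin_fun] at h
  omega

/-- The sum of `psi` over the blocks. -/
noncomputable def colSum (F : Type*) [Field F] [Fintype F] (m s : ℕ) : ℂ :=
  ∑ Y : Fin s → Fin m → F,
    psi ((Nat.card F : ℕ) : ℂ) (m + s - finrank F (Submodule.span F (Set.range Y)))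

theorem colSum_succ [Fintype F] (hm : 1 ≤ m) (s : ℕ) :
    colSum F m (s + 1) = qC ^ m * (1 - qC ^ s) * colSum F m s := by
  classical
  rw [colSum, ← (Fin.consEquiv (fun _ => Fin m → F)).sum_comp, Fintype.sum_prod_type_right, colSum,
    mul_sum]
  refine sum_congr rfl fun Y _ => ?_
  set W := Submodule.span F (Set.range Y) with hW
  set r := finrank F W with hr
  have hrs : r ≤ s := (finrank_range_le_card (R := F) Y).trans (Fintype.card_fin s).le
  have hrm : r ≤ m := W.finrank_le.trans (Module.finrank_fin_fun F).le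
  have hk : 1 ≤ m + s - r := by omega
  have e : ∀ y : Fin m → F, finrank F (Submodule.span F (Set.range (Fin.cons y Y : Fin (s + 1) → _))) =
      if y ∈ W then r else r + 1 := by
    intro y
    rw [Fin.range_cons, Submodule.span_insert, ← hW]
    split_ifs with hy
    · rw [sup_eq_right.2 ((Submodule.span_singleton_le_iff_mem _ _).2 hy)]
    · have h0 : y ≠ 0 := fun h => hy (h ▸ W.zero_mem)
      have hinf : F ∙ y ⊓ W = ⊥ := by
        rw [← disjoint_iff]
        exact ((Submodule.disjoint_span_singleton' h0).2 hy).symm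
      have h := Submodule.finrank_sup_add_finrank_inf_eq (F ∙ y) W
      rw [hinf, finrank_bot, finrank_span_singleton h0, ← hr] at h
      omega
  show ∑ y : Fin m → F, psi qC (m + (s + 1) -
    finrank F (Submodule.span F (Set.range (Fin.cons y Y : Fin (s + 1) → _)))) = _
  simp only [e]
  rw [← sum_filter_add_sum_filter_not univ (· ∈ W), sum_congr rfl (g := fun _ => psi qC (m + s - r + 1))
      (fun y hy => by rw [if_pos (mem_filter.1 hy).2]; congr 1; omega),
    sum_congr rfl (g := fun _ => psi qC (m + s - r)) (s₁ := univ.filter fun y => ¬ y ∈ W)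
      (fun y hy => by rw [if_neg (mem_filter.1 hy).2]; congr 1; omega),
    sum_const, sum_const, nsmul_eq_mul, nsmul_eq_mul]
  have hcW : ((univ.filter (· ∈ W)).card : ℂ) = qC ^ r := by
    rw [← Fintype.card_subtype, ← Nat.card_eq_fintype_card,
      show Nat.card {y // y ∈ W} = Nat.card W from rfl, Module.natCard_eq_pow_finrank (K := F),
      Nat.cast_pow]
  have hcN : ((univ.filter fun y : Fin m → F => ¬ y ∈ W).card : ℂ) = qC ^ m - qC ^ r := by
    have h := Finset.card_filter_add_card_filter_not (s := (univ : Finset (Fin m → F))) (· ∈ W)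
    rw [card_univ, ← Nat.card_eq_fintype_card, Module.natCard_eq_pow_finrank (K := F),
      Module.finrank_fin_fun] at h
    rw [← hcW, eq_sub_iff_add_eq, add_comm, ← Nat.cast_add, h, Nat.cast_pow]
  rw [hcW, hcN]
  obtain ⟨k, hk'⟩ := Nat.exists_eq_add_of_le hk
  rw [hk', add_comm 1 k]
  have e2 : psi qC (k + 1 + 1) = psi qC (k + 1) * (1 - qC ^ (k + 1)) := by simp [psi, prod_range_succ]
  have e3 : qC ^ m * qC ^ s = qC ^ r * qC ^ (k + 1) := by
    rw [← pow_add, ← pow_add]; congr 1; omega
  rw [e2]
  linear_combination psi qC (k + 1) * e3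

theorem colSum_eq_zero [Fintype F] (hm : 1 ≤ m) : ∀ s, 1 ≤ s → colSum F m s = 0 := by
  intro s hs
  induction s, hs using Nat.le_induction with
  | base => rw [colSum_succ hm 0, pow_zero, sub_self, mul_zero, zero_mul]
  | succ s _ ih => rw [colSum_succ hm s, ih, mul_zero]

open Classical in
theorem cusp_cuspidal {n : ℕ} [Fintype Kˣ] [Fintype (GL (Fin n) F)] (χ : Kˣ →* ℂ) {m : ℕ}
    (hm : 0 < m) (hmn : m < n) :
    (∑ g : GL (Fin n) F,
      if (∀ i j : Fin n, ¬ (i.val < m ∧ m ≤ j.val) →
        (g : Matrix (Fin n) (Fin n) F) i j = (1 : Matrix (Fin n) (Fin n) F) i j)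
      then cusp χ g else 0) = 0 := by
  obtain ⟨s, rfl⟩ := Nat.exists_eq_add_of_le hmn.le
  have := Fintype.ofFinite F
  have hs : 1 ≤ s := by omega
  rw [← sum_filter]
  calc ∑ g ∈ _, cusp χ g = ∑ Y : Fin s → Fin m → F, cusp χ (unip Y) := ?_
    _ = (-1) ^ (m + s - 1) * colSum F m s := by
        rw [colSum, mul_sum]
        refine sum_congr rfl fun Y _ => ?_
        rw [cusp_of_unipotent (by omega) χ _ ?_, finrank_ker_unip]
        rw [toEnd_unip_sub_one]
        exact ⟨2, by rw [sq, ← map_mul, blockMat_mul, map_zero]⟩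
    _ = 0 := by rw [colSum_eq_zero hm s hs, mul_zero]
  refine sum_nbij' (fun g => fun j i => (g : Matrix _ _ F) (Fin.castAdd s i) (Fin.natAdd m j)) unip
    (fun g _ => mem_univ _) ?_ ?_ ?_ ?_
  · intro Y _
    refine mem_filter.2 ⟨mem_univ _, fun i j h => ?_⟩
    show (1 + blockMat Y) i j = _
    induction i using Fin.addCases <;> induction j using Fin.addCases <;> simp [blockMat] at h ⊢
  · intro g hg
    refine Units.ext (Matrix.ext fun i j => ?_)
    show (1 + blockMat _ : Matrix (Fin (m + s)) (Fin (m + s)) F) i j = _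
    induction i using Fin.addCases <;> induction j using Fin.addCases <;>
      simp [blockMat, (mem_filter.1 hg).2, Matrix.one_apply, Fin.ext_iff] <;> omega
  · intro Y _
    funext j i
    show (1 + blockMat Y) (Fin.castAdd s i) (Fin.natAdd m j) = Y j i
    simp [blockMat, Matrix.one_apply, Fin.ext_iff]
    omega
  · intro g hg
    congr 1
    refine Units.ext (Matrix.ext fun i j => ?_)
    show _ = (1 + blockMat _ : Matrix (Fin (m + s)) (Fin (m + s)) F) i j
    induction i using Fin.addCases <;> induction j using Fin.addCases <;>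
      simp [blockMat, (mem_filter.1 hg).2, Matrix.one_apply, Fin.ext_iff] <;> omega

end Cfsg.Agent.GLCusp
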