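/-
At least φ(q^n - 1)/n cuspidal irreducible characters of GL_n(q).
-/
import Cfsg.Agent.Lib.GLCuspidal.Unipotent

set_option autoImplicit false
set_option linter.unusedSectionVars false
set_option linter.style.haveILetI false

namespace Cfsg.Agent.GLCusp

open Finset Module Polynomial
open scoped ComplexConjugate MatrixGroups

variable {F : Type*} [Field F] [Finite F] {K : Type*} [Field K] [Finite K] [Algebra F K]
variable {n : ℕ}

local notation "qC" => ((Nat.card F : ℕ) : ℂ)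

theorem exists_injective_hom (K : Type*) [Field K] [Finite K] :
    ∃ ι : Kˣ →* ℂ, Function.Injective ι ∧ ∀ a, ι a * conj (ι a) = 1 := by
  haveI : NeZero (Nat.card Kˣ) := ⟨Nat.card_pos.ne'⟩
  let e : Kˣ ≃* rootsOfUnity (Nat.card Kˣ) ℂ :=
    mulEquivOfCyclicCardEq (Complex.card_rootsOfUnity _).symm
  let ι : Kˣ →* ℂ := (Units.coeHom ℂ).comp ((rootsOfUnity _ ℂ).subtype.comp e.toMonoidHom)
  refine ⟨ι, Units.val_injective.comp (Subtype.val_injective.comp e.injective), fun a => ?_⟩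
  have h : ι a ^ Nat.card Kˣ = 1 := by rw [← map_pow, pow_card_eq_one', map_one]
  rw [Complex.mul_conj', Complex.norm_eq_one_of_pow_eq_one h Nat.card_pos.ne']
  simp

theorem sum_lam_pow {e : ℕ} [Fintype (lam F K e)] (he : e ∣ finrank F K) {ι : Kˣ →* ℂ}
    (hι : Function.Injective ι) (hu : ∀ a, ι a * conj (ι a) = 1) (s r : ℕ) :
    ∑ a : lam F K e, ι a.1 ^ s * conj (ι a.1 ^ r) =
      if (s : ZMod (Nat.card F ^ e - 1)) = (r : ZMod (Nat.card F ^ e - 1)) then qC ^ e - 1 else 0 := by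
  classical
  let η : lam F K e →* ℂ := ((powMonoidHom s : ℂ →* ℂ).comp (ι.comp (lam F K e).subtype)) *
    (((starRingEnd ℂ).toMonoidHom.comp (powMonoidHom r)).comp (ι.comp (lam F K e).subtype))
  have hη : ∀ a, η a = ι a.1 ^ s * conj (ι a.1 ^ r) := fun a => rfl
  simp only [← hη]
  rw [sum_hom_units, ← Nat.card_eq_fintype_card, card_lam he]
  have hiff : η = 1 ↔ (s : ZMod (Nat.card F ^ e - 1)) = (r : ZMod (Nat.card F ^ e - 1)) := by
    obtain ⟨z, hz⟩ := IsCyclic.exists_generator (α := lam F K e)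
    have hz' : orderOf z = Nat.card F ^ e - 1 := by
      rw [orderOf_eq_card_of_forall_mem_zpowers hz, card_lam he]
    have key : ∀ a : lam F K e, η a = 1 ↔ a ^ s = a ^ r := by
      intro a
      have h1 : ι a.1 ^ r * conj (ι a.1 ^ r) = 1 := by rw [map_pow, ← mul_pow, hu, one_pow]
      have h2 : conj (ι a.1 ^ r) ≠ 0 := right_ne_zero_of_mul_eq_one h1
      rw [hη]
      refine ⟨fun h => ?_, fun h => ?_⟩
      · have h3 := mul_right_cancel₀ h2 (h.trans h1.symm)
        rw [← map_pow, ← map_pow] at h3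
        exact Subtype.ext (hι h3)
      · rw [← map_pow ι a.1 s, show a.1 ^ s = a.1 ^ r from congrArg Subtype.val h, map_pow, h1]
    rw [ZMod.natCast_eq_natCast_iff, ← hz', ← pow_eq_pow_iff_modEq, ← key]
    refine ⟨fun h => by rw [h]; rfl, fun h => MonoidHom.ext fun a => ?_⟩
    obtain ⟨c, rfl⟩ : ∃ c : ℕ, z ^ c = a := mem_powers_iff_mem_zpowers.2 (hz a)
    rw [map_pow, h, one_pow, MonoidHom.one_apply]
  by_cases h : η = 1
  · rw [if_pos h, if_pos (hiff.1 h), Nat.cast_sub (Nat.one_le_pow e (Nat.card F) Nat.card_pos)]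
    push_cast; rfl
  · rw [if_neg h, if_neg (fun h' => h (hiff.2 h')), Nat.cast_zero]

theorem classInner_cusp_pow [Fintype Kˣ] [Fintype (GL (Fin n) F)] (hn : 1 ≤ n)
    (hdeg : n ∣ finrank F K) {ι : Kˣ →* ℂ} (hι : Function.Injective ι)
    (hu : ∀ a, ι a * conj (ι a) = 1) (s t : ℕ) :
    classInner (cusp (F := F) ((powMonoidHom s : ℂ →* ℂ).comp ι) : GL (Fin n) F → ℂ)
        (cusp ((powMonoidHom t : ℂ →* ℂ).comp ι)) =
      (((range n).filter (fun i => (s : ZMod (Nat.card F ^ n - 1)) =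
        ((t * Nat.card F ^ i : ℕ) : ZMod (Nat.card F ^ n - 1)))).card : ℂ) := by
  classical
  have hz : qC ^ n - 1 ≠ 0 := sub_ne_zero.2 ((generic_card (Kf := F)).pow_ne n (by omega))
  have e : ∀ i, ∑ a : lam F K n, (powMonoidHom s : ℂ →* ℂ).comp ι a.1 *
      conj ((powMonoidHom t : ℂ →* ℂ).comp ι (a.1 ^ (Nat.card F ^ i))) =
      if (s : ZMod (Nat.card F ^ n - 1)) = ((t * Nat.card F ^ i : ℕ) : ZMod (Nat.card F ^ n - 1))
        then qC ^ n - 1 else 0 := by
    intro i
    rw [← sum_lam_pow hdeg hι hu s (t * Nat.card F ^ i)]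
    refine sum_congr rfl fun a _ => ?_
    simp only [MonoidHom.comp_apply, powMonoidHom_apply, map_pow, ← pow_mul, mul_comm t]
  rw [classInner_cusp hn, sum_congr rfl (fun i _ => e i), ← sum_filter, sum_const, nsmul_eq_mul]
  field_simp

variable (F) in
theorem two_le_pow_sub_one {n : ℕ} (hn : 2 ≤ n) : 2 ≤ Nat.card F ^ n - 1 := by
  have h1 : 2 ≤ Nat.card F := Finite.one_lt_card
  have h2 : Nat.card F ^ 2 ≤ Nat.card F ^ n := Nat.pow_le_pow_right (by omega) hn
  have h3 : 4 ≤ Nat.card F ^ 2 := by nlinarith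
  omega

variable (F) in
theorem coprime_pow_sub_one {n : ℕ} (hn : 2 ≤ n) :
    Nat.Coprime (Nat.card F) (Nat.card F ^ n - 1) := by
  refine Nat.coprime_of_dvd' fun k _ h1 h2 => ?_
  have h := Nat.dvd_sub (dvd_pow h1 (show n ≠ 0 by omega)) h2
  rwa [Nat.sub_sub_self (Nat.one_le_pow _ _ Nat.card_pos)] at h

variable (F) in
/-- `q` as a unit modulo `q^n - 1`. -/
noncomputable def qUnit {n : ℕ} (hn : 2 ≤ n) : (ZMod (Nat.card F ^ n - 1))ˣ :=
  ZMod.unitOfCoprime (Nat.card F) (coprime_pow_sub_one F hn)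

variable (F) in
theorem orderOf_qUnit {n : ℕ} (hn : 2 ≤ n) : orderOf (qUnit F hn) = n := by
  have hM := two_le_pow_sub_one F hn
  haveI : NeZero (Nat.card F ^ n - 1) := ⟨by omega⟩
  have h1 : ∀ i, qUnit F hn ^ i = 1 ↔ (Nat.card F ^ n - 1) ∣ Nat.card F ^ i - 1 := by
    intro i
    rw [← Nat.modEq_iff_dvd' (Nat.one_le_pow i (Nat.card F) Nat.card_pos),
      ← ZMod.natCast_eq_natCast_iff, Nat.cast_one, Nat.cast_pow, eq_comm, Units.ext_iff]
    rfl
  rw [orderOf_eq_iff (by omega)]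
  refine ⟨(h1 n).2 dvd_rfl, fun i hi hi0 h => ?_⟩
  have hlt : Nat.card F ^ i < Nat.card F ^ n := Nat.pow_lt_pow_right Finite.one_lt_card hi
  have hpos : 1 < Nat.card F ^ i := Nat.one_lt_pow (by omega) Finite.one_lt_card
  have := Nat.le_of_dvd (by omega) ((h1 i).1 h)
  omega

/-- The cuspidal characters. -/
theorem exists_cuspidal [Fintype Kˣ] [Fintype (GL (Fin n) F)] (hn : 2 ≤ n)
    (hdeg : ∀ e ∈ Icc 1 n, e ∣ finrank F K) :
    ∃ Φ : (ZMod (Nat.card F ^ n - 1))ˣ ⧸ Subgroup.zpowers (qUnit F hn) →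
        IrrCharacter (GL (Fin n) F),
      Function.Injective Φ ∧ ∀ c, (Φ c).1 1 = ∏ i ∈ Ico 1 n, (qC ^ i - 1) ∧
        ∀ m : ℕ, 0 < m → m < n → open Classical in
          (∑ g : GL (Fin n) F,
            if (∀ i j : Fin n, ¬ (i.val < m ∧ m ≤ j.val) →
              (g : Matrix (Fin n) (Fin n) F) i j = (1 : Matrix (Fin n) (Fin n) F) i j)
            then (Φ c).1 g else 0) = 0 := by
  classical
  have hM := two_le_pow_sub_one F hn
  haveI : NeZero (Nat.card F ^ n - 1) := ⟨by omega⟩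
  obtain ⟨ι, hι, hu⟩ := exists_injective_hom K
  set qu := qUnit F hn with hqu
  let π : (ZMod (Nat.card F ^ n - 1))ˣ → GL (Fin n) F → ℂ := fun u =>
    cusp (F := F) ((powMonoidHom (u : ZMod (Nat.card F ^ n - 1)).val : ℂ →* ℂ).comp ι)
  have hinner : ∀ u v, classInner (π u) (π v) =
      (((range n).filter (fun i => u = v * qu ^ i)).card : ℂ) := by
    intro u v
    rw [classInner_cusp_pow (by omega) (hdeg n (mem_Icc.2 ⟨by omega, le_rfl⟩)) hι hu]
    congr 2
    refine filter_congr fun i _ => ?_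
    rw [Units.ext_iff, Nat.cast_mul, Nat.cast_pow, ZMod.natCast_zmod_val, ZMod.natCast_zmod_val]
    rfl
  have hself : ∀ u, classInner (π u) (π u) = 1 := by
    intro u
    rw [hinner, show (range n).filter (fun i => u = u * qu ^ i) = {0} from ?_, card_singleton,
      Nat.cast_one]
    ext i
    simp only [mem_filter, mem_range, mem_singleton, left_eq_mul]
    refine ⟨fun ⟨hi, h⟩ => ?_, fun h => by subst h; exact ⟨by omega, pow_zero _⟩⟩
    by_contra h0
    have := orderOf_le_of_pow_eq_one (Nat.pos_of_ne_zero h0) h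
    rw [hqu, orderOf_qUnit] at this
    omega
  have hone : ∀ u, π u 1 = ((∏ i ∈ Ico 1 n, (Nat.card F ^ i - 1) : ℕ) : ℂ) := by
    intro u
    show cusp _ _ = _
    rw [cusp_one (by omega), Nat.cast_prod]
    refine prod_congr rfl fun i _ => ?_
    rw [Nat.cast_sub (Nat.one_le_pow _ _ Nat.card_pos), Nat.cast_pow, Nat.cast_one]
  have hirr : ∀ u, IsIrrCharacter (GL (Fin n) F) (π u) := by
    intro u
    obtain ⟨ψ, h | h⟩ := Char.IsGeneralizedCharacter.irr_or_neg_of_norm_one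
      (isGeneralized_cusp hdeg (by omega) _) (hself u)
    · rw [show π u = ψ.1 from h]; exact ψ.2
    · exfalso
      obtain ⟨k, hk, hk1⟩ := Char.IsIrrCharacter.exists_degree ψ.2
      have h1 : π u 1 = -(ψ.1 1) := congrFun h 1
      rw [hone, hk1] at h1
      have h2 : (((∏ i ∈ Ico 1 n, (Nat.card F ^ i - 1)) + k : ℕ) : ℂ) = 0 := by
        rw [Nat.cast_add, h1, neg_add_cancel]
      have h3 := Nat.cast_eq_zero.1 h2
      omega
  refine ⟨fun c => ⟨π c.out, hirr _⟩, fun c c' h => ?_, fun c => ⟨?_, fun m hm hmn => ?_⟩⟩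
  · have h' : π c.out = π c'.out := congrArg Subtype.val h
    have h1 := hinner c.out c'.out
    rw [← h', hself] at h1
    have h2 : ((range n).filter fun i => c.out = c'.out * qu ^ i).card ≠ 0 := by
      intro h0
      rw [h0, Nat.cast_zero] at h1
      exact one_ne_zero h1
    obtain ⟨i, hi⟩ := Finset.card_ne_zero.1 h2
    rw [← QuotientGroup.out_eq' c, ← QuotientGroup.out_eq' c', (mem_filter.1 hi).2,
      QuotientGroup.mk_mul_of_mem _ (Subgroup.pow_mem _ (Subgroup.mem_zpowers qu) i)]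
  · exact cusp_one (by omega) _
  · let χ : Kˣ →* ℂ :=
      (powMonoidHom (c.out : ZMod (Nat.card F ^ n - 1)).val : ℂ →* ℂ).comp ι
    exact cusp_cuspidal (F := F) χ hm hmn

theorem card_quotient (hn : 2 ≤ n) :
    Nat.card ((ZMod (Nat.card F ^ n - 1))ˣ ⧸ Subgroup.zpowers (qUnit F hn)) =
      Nat.totient (Nat.card F ^ n - 1) / n := by
  have hM := two_le_pow_sub_one F hn
  haveI : NeZero (Nat.card F ^ n - 1) := ⟨by omega⟩
  have h := Subgroup.card_eq_card_quotient_mul_card_subgroup (Subgroup.zpowers (qUnit F hn))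
  rw [Nat.card_zpowers, orderOf_qUnit, Nat.card_eq_fintype_card, ZMod.card_units_eq_totient] at h
  rw [h, Nat.mul_div_cancel _ (by omega)]

end Cfsg.Agent.GLCusp
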